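import Groth.Agent.EtSupp70.Devissage
import Groth.Agent.EtDerLib.RpushLoc
import Groth.Prelude.Def_EtCore

/-!
# Vanishing of the cohomology of a direct image from vanishing of higher direct images
-/

universe u

open CategoryTheory CategoryTheory.Limits AlgebraicGeometry Opposite CategoryTheory.Abelian

namespace Groth.Agent.EtSupp70

set_option backward.isDefEq.respectTransparency.types false

variable {X Y : Scheme.{u}} (f : X ⟶ Y) [EtCoh.BCCont f]

/-- the first derived functor of the direct image is the cokernel -/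
theorem nonempty_cokernel_push_iso (G : EtCoh.Ab X) :
    Nonempty (cokernel ((EtCoh.push f).map (EtMVLib.injSES G).g) ≅ (EtCoh.Rpush f 1).obj G) := by
  haveI : (EtCoh.push f).IsRightAdjoint := (EtCoh.pullPushAdj f).isRightAdjoint
  let := HasDerivedCategory.standard (EtCoh.Ab X)
  let := HasDerivedCategory.standard (EtCoh.Ab Y)
  let S := EtMVLib.injSES G
  haveI : Injective S.X₂ := inferInstanceAs (Injective (Injective.under G))
  obtain ⟨δ, w₁, w₂, w₃, -, e₂, e₃⟩ :=
    TriCat.exists_rightDerived_ses (EtCoh.push f) (EtMVLib.injSES_shortExact G) 0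
  haveI : Epi δ := e₃.epi_f ((TriCat.isRightAcyclic_of_injective S.X₂ 1 one_pos).eq_of_tgt _ _)
  exact ⟨(e₂.gIsCokernel.coconePointUniqueUpToIso (cokernelIsCokernel _) ≪≫
      cokernel.mapIso _ _ ((EtCoh.push f).rightDerivedZeroIsoSelf.app S.X₂)
        ((EtCoh.push f).rightDerivedZeroIsoSelf.app S.X₃)
        ((EtCoh.push f).rightDerivedZeroIsoSelf.hom.naturality S.g)).symm⟩

/-- dimension shifting for higher direct images -/
theorem nonempty_Rpush_shift_iso (G : EtCoh.Ab X) (p : ℕ) :
    Nonempty ((EtCoh.Rpush f (p + 1)).obj (EtMVLib.injSES G).X₃ ≅ (EtCoh.Rpush f (p + 2)).obj G) := by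
  haveI : (EtCoh.push f).IsRightAdjoint := (EtCoh.pullPushAdj f).isRightAdjoint
  let := HasDerivedCategory.standard (EtCoh.Ab X)
  let := HasDerivedCategory.standard (EtCoh.Ab Y)
  let S := EtMVLib.injSES G
  haveI : Injective S.X₂ := inferInstanceAs (Injective (Injective.under G))
  obtain ⟨δ, w₁, w₂, w₃, -, e₂, e₃⟩ :=
    TriCat.exists_rightDerived_ses (EtCoh.push f) (EtMVLib.injSES_shortExact G) (p + 1)
  haveI : Mono δ := e₂.mono_g ((TriCat.isRightAcyclic_of_injective S.X₂ (p + 1) (by omega)).eq_of_src _ _)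
  haveI : Epi δ := e₃.epi_f ((TriCat.isRightAcyclic_of_injective S.X₂ (p + 1 + 1) (by omega)).eq_of_tgt _ _)
  haveI := isIso_of_mono_of_epi δ
  exact ⟨asIso δ⟩

omit [EtCoh.BCCont f] in
/-- the cohomology of the injective cokernel -/
theorem subsingleton_H_injSES₃ (G : EtCoh.Ab X) (q : ℕ) (h : Subsingleton (EtCoh.H X G (q + 2))) :
    Subsingleton (EtCoh.H X (EtMVLib.injSES G).X₃ (q + 1)) := by
  let S := EtMVLib.injSES G
  haveI : Injective S.X₂ := inferInstanceAs (Injective (Injective.under G))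
  refine subsingleton_of_forall_eq 0 fun x => ?_
  obtain ⟨y, hy⟩ := Ext.covariant_sequence_exact₃ _ (EtMVLib.injSES_shortExact G) x (rfl : q + 1 + 1 = q + 2)
    (@Subsingleton.elim _ h _ _)
  rw [← hy, Ext.eq_zero_of_injective y, Ext.zero_comp]

set_option maxHeartbeats 800000 in
/-- vanishing of the cohomology of a direct image -/
theorem subsingleton_H_push_of_Rpush : ∀ (r : ℕ) (G : EtCoh.Ab X),
    Subsingleton (EtCoh.H X G (r + 1)) →
    (∀ a p : ℕ, a + p + 2 = r + 1 → Subsingleton (EtCoh.H Y ((EtCoh.Rpush f (p + 1)).obj G) a)) →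
    Subsingleton (EtCoh.H Y ((EtCoh.push f).obj G) (r + 1)) := by
  haveI : (EtCoh.push f).IsRightAdjoint := (EtCoh.pullPushAdj f).isRightAdjoint
  haveI := EtFound.pull_preservesFiniteLimits f
  intro r
  induction r with
  | zero =>
    intro G hG _
    let S := EtMVLib.injSES G
    obtain ⟨hex, hmono⟩ := ((Functor.preservesFiniteLimits_tfae (EtCoh.push f)).out 3 0 rfl rfl).1
      inferInstance S (EtMVLib.injSES_shortExact G)
    haveI : Injective S.X₂ := inferInstanceAs (Injective (Injective.under G))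
    haveI : Injective ((EtCoh.push f).obj S.X₂) := Injective.injective_of_adjoint (EtCoh.pullPushAdj f) S.X₂
    let φ := (EtCoh.push f).map S.g
    let τ := Abelian.factorThruImage φ
    have hτι : τ ≫ Abelian.image.ι φ = φ := kernel.lift_ι _ _ _
    have h0 : (EtCoh.push f).map S.f ≫ τ = 0 := by
      rw [← cancel_mono (Abelian.image.ι φ), Category.assoc, hτι, zero_comp]
      exact (S.map (EtCoh.push f)).zero
    have hS₁ : (ShortComplex.mk ((EtCoh.push f).map S.f) τ h0).ShortExact :=
      { exact := by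
          let g : ShortComplex.mk ((EtCoh.push f).map S.f) τ h0 ⟶ S.map (EtCoh.push f) :=
            { τ₁ := 𝟙 _
              τ₂ := 𝟙 _
              τ₃ := Abelian.image.ι φ
              comm₁₂ := (Category.id_comp _).trans (Category.comp_id _).symm
              comm₂₃ := (Category.id_comp _).trans hτι.symm }
          haveI : Epi g.τ₁ := inferInstanceAs (Epi (𝟙 _))
          haveI : IsIso g.τ₂ := inferInstanceAs (IsIso (𝟙 _))
          haveI : Mono g.τ₃ := inferInstanceAs (Mono (Abelian.image.ι φ))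
          exact (ShortComplex.exact_iff_of_epi_of_isIso_of_mono g).2 hex
        mono_f := hmono
        epi_g := inferInstanceAs (Epi (Abelian.factorThruImage φ)) }
    refine subsingleton_of_forall_eq 0 fun x => ?_
    obtain ⟨β, rfl⟩ := Ext.covariant_sequence_exact₁ _ hS₁ x (Ext.eq_zero_of_injective _) rfl
    obtain ⟨β, rfl⟩ := (Ext.mk₀_bijective _ _).2 β
    let L := EtCoh.const Y ℤ
    let e : (EtCoh.pull f).obj L ≅ EtCoh.const X ℤ := EtCore.pullConst f ℤ
    let γ : (EtCoh.pull f).obj L ⟶ S.X₃ :=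
      ((EtCoh.pullPushAdj f).homEquiv _ _).symm (β ≫ Abelian.image.ι φ)
    obtain ⟨y, hy⟩ := Ext.covariant_sequence_exact₃ _ (EtMVLib.injSES_shortExact G)
      (Ext.mk₀ (e.inv ≫ γ)) (rfl : 0 + 1 = 1) (@Subsingleton.elim _ hG _ _)
    obtain ⟨y, rfl⟩ := (Ext.mk₀_bijective _ _).2 y
    rw [Ext.mk₀_comp_mk₀] at hy
    have hy' : (e.hom ≫ y) ≫ S.g = γ := by
      rw [Category.assoc, (Ext.mk₀_bijective _ _).1 hy, Iso.hom_inv_id_assoc]
    let ψ : L ⟶ (EtCoh.push f).obj S.X₂ := (EtCoh.pullPushAdj f).homEquiv _ _ (e.hom ≫ y)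
    have hψ : ψ ≫ τ = β := by
      rw [← cancel_mono (Abelian.image.ι φ), Category.assoc, hτι, ← Adjunction.homEquiv_naturality_right, hy',
        Equiv.apply_symm_apply]
    rw [← hψ, ← Ext.mk₀_comp_mk₀, Ext.comp_assoc_of_second_deg_zero, hS₁.comp_extClass, Ext.comp_zero]
  | succ r ih =>
    intro G hG hR
    let S := EtMVLib.injSES G
    obtain ⟨hex, hmono⟩ := ((Functor.preservesFiniteLimits_tfae (EtCoh.push f)).out 3 0 rfl rfl).1
      inferInstance S (EtMVLib.injSES_shortExact G)
    haveI : Injective S.X₂ := inferInstanceAs (Injective (Injective.under G))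
    haveI : Injective ((EtCoh.push f).obj S.X₂) := Injective.injective_of_adjoint (EtCoh.pullPushAdj f) S.X₂
    let φ := (EtCoh.push f).map S.g
    obtain ⟨e₁⟩ := nonempty_cokernel_push_iso f G
    have hI : ∀ n, Subsingleton (EtCoh.H Y ((EtCoh.push f).obj S.X₂) (n + 1)) := fun n =>
      Ext.subsingleton_of_injective _ _ n
    have hC : Subsingleton (EtCoh.H Y (cokernel φ) r) :=
      haveI := hR r 0 rfl
      subsingleton_H_of_iso e₁.symm r
    have h3 : Subsingleton (EtCoh.H Y ((EtCoh.push f).obj S.X₃) (r + 1)) :=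
      ih S.X₃ (subsingleton_H_injSES₃ G r hG) fun a p hap => by
        obtain ⟨e⟩ := nonempty_Rpush_shift_iso f G p
        haveI := hR a (p + 1) (by omega)
        exact subsingleton_H_of_iso e.symm a
    -- the image
    have hM : Subsingleton (EtCoh.H Y (Abelian.image φ) (r + 1)) :=
      subsingleton_H_first (S := ShortComplex.mk (kernel.ι (cokernel.π φ)) (cokernel.π φ) (kernel.condition _))
        { exact := ShortComplex.exact_of_f_is_kernel _ (kernelIsKernel _) } r hC h3
    let τ := Abelian.factorThruImage φ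
    have hτι : τ ≫ Abelian.image.ι φ = φ := kernel.lift_ι _ _ _
    have h0 : (EtCoh.push f).map S.f ≫ τ = 0 := by
      rw [← cancel_mono (Abelian.image.ι φ), Category.assoc, hτι, zero_comp]
      exact (S.map (EtCoh.push f)).zero
    refine subsingleton_H_first (S := ShortComplex.mk ((EtCoh.push f).map S.f) τ h0)
      { exact := ?_, mono_f := hmono, epi_g := inferInstanceAs (Epi (Abelian.factorThruImage φ)) } (r + 1)
      hM (hI (r + 1))
    let g : ShortComplex.mk ((EtCoh.push f).map S.f) τ h0 ⟶ S.map (EtCoh.push f) :=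
      { τ₁ := 𝟙 _
        τ₂ := 𝟙 _
        τ₃ := Abelian.image.ι φ
        comm₁₂ := (Category.id_comp _).trans (Category.comp_id _).symm
        comm₂₃ := (Category.id_comp _).trans hτι.symm }
    haveI : Epi g.τ₁ := inferInstanceAs (Epi (𝟙 _))
    haveI : IsIso g.τ₂ := inferInstanceAs (IsIso (𝟙 _))
    haveI : Mono g.τ₃ := inferInstanceAs (Mono (Abelian.image.ι φ))
    exact (ShortComplex.exact_iff_of_epi_of_isIso_of_mono g).2 hex

end Groth.Agent.EtSupp70
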