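import Groth.Agent.EtSupp70.Liftable
import Groth.Agent.EtPBC63.Gen
import Groth.Agent.EtFound.GermSupp
import Groth.Agent.EtFound.PullGerm
import Groth.Agent.EtFound.Detect
import Groth.Agent.EtFound.PushExact
import Groth.Agent.EtDual68.Supp
import Groth.Prelude.Def_EtDual

/-!
# Every sheaf is the filtered colimit of its subsheaves with closed support
-/

universe u

open CategoryTheory CategoryTheory.Limits AlgebraicGeometry Opposite TopologicalSpace

namespace Groth.Agent.EtSupp70

open Groth.Agent.EtFound Groth.Agent.EtPBC63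

set_option backward.isDefEq.respectTransparency.types false

variable {X Y : Scheme.{u}}

/-- an inverse image vanishes iff the support avoids the image -/
theorem isZero_pull_iff (f : Y ⟶ X) (F : EtCoh.Ab X) :
    IsZero ((EtCoh.pull f).obj F) ↔ Disjoint (Set.range f.base) (EtPBC.supp F) := by
  rw [isZero_iff_stalks]
  constructor
  · intro h
    rw [Set.disjoint_left]
    rintro _ ⟨y, rfl⟩ hy
    obtain ⟨Ω, _, _, ξ, rfl⟩ := exists_geomPoint y
    refine (mem_supp_iff (ξ ≫ f)).1 (Set.mem_of_eq_of_mem (Scheme.Hom.comp_apply _ _ _) hy) ?_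
    exact (h Ω ξ).of_iso ((stalkPullIso f ξ).app F).symm
  · intro h Ω _ _ ξ
    by_contra h0
    refine Set.disjoint_left.1 h ⟨ξ.base default, rfl⟩ ?_
    refine Set.mem_of_eq_of_mem (Scheme.Hom.comp_apply _ _ _).symm ((mem_supp_iff (ξ ≫ f)).2 fun hz => h0 ?_)
    exact hz.of_iso ((stalkPullIso f ξ).app F)

/-- direct images are supported on the closure of the image -/
theorem supp_push_subset (f : Y ⟶ X) (G : EtCoh.Ab Y) :
    EtPBC.supp ((EtCoh.push f).obj G) ⊆ closure (Set.range f.base) := by
  intro x hx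
  by_contra hc
  obtain ⟨Ω, _, _, ξ, rfl⟩ := exists_geomPoint x
  refine (mem_supp_iff ξ).1 hx (AddCommGrpCat.isZero_iff_subsingleton.2 ?_)
  obtain ⟨h⟩ := nonempty_unique_stalk isClosed_closure ((EtCoh.push f).obj G)
    (fun U hU => push_unique_of_disjoint f G U (hU.mono_right subset_closure)) ξ hc
  exact @Unique.instSubsingleton _ h

/-- the complement of a closed set, as an open immersion -/
noncomputable abbrev cj (W : Closeds X) : ((W.compl : X.Opens) : Scheme.{u}) ⟶ X := Scheme.Opens.ι (W.compl : X.Opens)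

/-- the largest subsheaf supported in a closed set -/
noncomputable abbrev sub (W : Closeds X) : EtCoh.Ab X ⥤ EtCoh.Ab X := EtDual.secSupp (cj W)

/-- its inclusion -/
noncomputable abbrev subι (W : Closeds X) (F : EtCoh.Ab X) : (sub W).obj F ⟶ F :=
  kernel.ι (EtDual.unitApp (cj W) F)

theorem range_compl (W : Closeds X) : Set.range (cj W).base = (W : Set X)ᶜ :=
  Scheme.Opens.range_ι (W.compl : X.Opens)

theorem supp_sub_subset (W : Closeds X) (F : EtCoh.Ab X) : EtPBC.supp ((sub W).obj F) ⊆ W := by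
  have hz : IsZero ((EtCoh.pull (cj W)).obj ((sub W).obj F)) := by
    haveI := EtFound.pull_preservesFiniteLimits (cj W)
    haveI : IsIso ((EtCoh.pullPushAdj (cj W)).counit.app ((EtCoh.pull (cj W)).obj F)) :=
      counit_isIso _ (liftable_of_isOpenImmersion _) _
    haveI : IsIso ((EtCoh.pull (cj W)).map (EtDual.unitApp (cj W) F)) :=
      isIso_of_comp_hom_eq_id _ ((EtCoh.pullPushAdj (cj W)).left_triangle_components F)
    have h0 : (EtCoh.pull (cj W)).map (subι W F) = 0 := by
      rw [← cancel_mono ((EtCoh.pull (cj W)).map (EtDual.unitApp (cj W) F)), ← Functor.map_comp,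
        kernel.condition, Functor.map_zero, zero_comp]
    exact IsZero.of_mono_eq_zero ((EtCoh.pull (cj W)).map (subι W F)) h0
  rw [isZero_pull_iff, range_compl] at hz
  exact fun x hx => by_contra fun h => Set.disjoint_left.1 hz h hx

/-- sheaves supported in `W` map into `sub W` -/
theorem exists_lift (W : Closeds X) {G F : EtCoh.Ab X} (h : G ⟶ F) (hG : EtPBC.supp G ⊆ W) :
    ∃ l : G ⟶ (sub W).obj F, l ≫ subι W F = h := by
  have hz : IsZero ((EtCoh.pull (cj W)).obj G) := by
    rw [isZero_pull_iff, range_compl]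
    exact Set.disjoint_left.2 fun x hx hx' => hx (hG hx')
  refine ⟨kernel.lift _ h ?_, kernel.lift_ι _ _ _⟩
  apply ((EtCoh.pullPushAdj (cj W)).homEquiv _ _).symm.injective
  exact hz.eq_of_src _ _

/-- sections with germ support over `W` come from `sub W` -/
theorem exists_sect_lift (W : Closeds X) (F : EtCoh.Ab X) (V : X.Etale) (s : F.obj.obj (op V))
    (hs : ∀ q ∈ germSupp F V s, V.hom.base q ∈ W) :
    (EtDual.unitApp (cj W) F).hom.app (op V) s = 0 := by
  let j := (cj W)
  let G := (EtCoh.pull j).obj F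
  refine (((isSheaf_iff_isSheaf_of_type _ _).1
    ((sheafCompose ((W.compl : X.Opens) : Scheme.{u}).smallEtaleTopology (forget AddCommGrpCat.{u + 1})).obj G).property).isSeparated
    _ (equalizerSieve_mem_of_germs G.obj ((EtCoh.bc j).obj V) ((EtDual.unitApp j F).hom.app (op V) s) 0 fun Ω _ _ ξ t => ?_)).ext
      fun _ g hg => hg
  have h1 := (germ_unit_eq_iff (A := AddCommGrpCat.{u + 1}) j ξ F V t s 0).2 (by
    by_contra h
    rw [map_zero] at h
    have hmem := (mem_germSupp_iff s (bcFiberEquiv j ξ V t)).2 h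
    have h2 := hs _ hmem
    rw [hom_ptOf] at h2
    have : (ξ ≫ j).base (default : Spec (CommRingCat.of Ω)) ∈ Set.range j.base :=
      ⟨ξ.base default, (Scheme.Hom.comp_apply _ _ _).symm⟩
    rw [range_compl] at this
    exact this h2)
  refine h1.trans (Eq.trans ?_ (map_zero _).symm)
  exact (congrArg _ (map_zero ((EtDual.unitApp j F).hom.app (op V)).hom)).trans (map_zero _)

/-- on a Noetherian scheme the image of a germ support lies in finitely many closures of points of the support -/
theorem exists_finset_germSupp [IsNoetherian X] (F : EtCoh.Ab X) (V : X.Etale) [CompactSpace V.left]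
    (s : F.obj.obj (op V)) :
    ∃ T : Finset X, (↑T : Set X) ⊆ EtPBC.supp F ∧ ∀ q ∈ germSupp F V s, V.hom.base q ∈ ⋃ y ∈ T, closure {y} := by
  classical
  haveI : AlgebraicGeometry.Etale V.hom := V.prop
  haveI : IsLocallyNoetherian V.left := @LocallyOfFiniteType.isLocallyNoetherian V.left X V.hom inferInstance inferInstance
  haveI : IsNoetherian V.left := {}
  obtain ⟨S, hfin, hcl, hirr, hS⟩ := NoetherianSpace.exists_finite_set_isClosed_irreducible
    (isClosed_germSupp F V s)
  let g : S → V.left := fun Z => (hirr Z.1 Z.2).genericPoint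
  haveI := hfin.fintype
  have hg : ∀ Z : S, closure {g Z} = Z.1 := fun Z => (hirr Z.1 Z.2).isGenericPoint_genericPoint (hcl Z.1 Z.2)
  refine ⟨Finset.univ.image fun Z : S => V.hom.base (g Z), ?_, fun q hq => ?_⟩
  · intro y hy
    simp only [Finset.coe_image, Finset.coe_univ, Set.image_univ, Set.mem_range] at hy
    obtain ⟨Z, rfl⟩ := hy
    have hmem : g Z ∈ germSupp F V s := by
      rw [hS]
      exact ⟨Z.1, Z.2, (hg Z).le (subset_closure rfl)⟩
    obtain ⟨Ω, _, _, ξ, z, hz⟩ := exists_algClosed_point V (g Z)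
    refine Set.mem_of_eq_of_mem ((congrArg V.hom.base hz.symm).trans (hom_ptOf z)) ((mem_supp_iff ξ).2 fun h0 => ?_)
    rw [← hz] at hmem
    have := AddCommGrpCat.subsingleton_of_isZero h0
    exact (mem_germSupp_iff s z).1 hmem (@Subsingleton.elim _ this _ _)
  · rw [hS] at hq
    obtain ⟨Z, hZ, hqZ⟩ := hq
    rw [Set.mem_iUnion₂]
    refine ⟨V.hom.base (g ⟨Z, hZ⟩), Finset.mem_image_of_mem _ (Finset.mem_univ _), ?_⟩
    change q ∈ ((⟨Z, hZ⟩ : S).1 : Set V.left) at hqZ
    rw [← hg ⟨Z, hZ⟩] at hqZ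
    exact ((image_closure_subset_closure_image V.hom.continuous).trans_eq
      (congrArg closure Set.image_singleton)) ⟨q, hqZ, rfl⟩

/-- the directed system of subsheaves with supports in a family of closed sets -/
noncomputable def subMap {W W' : Closeds X} (h : W ≤ W') (F : EtCoh.Ab X) : (sub W).obj F ⟶ (sub W').obj F :=
  (exists_lift W' (subι W F) ((supp_sub_subset W F).trans h)).choose

theorem subMap_ι {W W' : Closeds X} (h : W ≤ W') (F : EtCoh.Ab X) : subMap h F ≫ subι W' F = subι W F :=
  (exists_lift W' (subι W F) ((supp_sub_subset W F).trans h)).choose_spec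

/-- an element of a stalk comes from `sub W` if it is a germ supported over `W` -/
theorem exists_stalk_lift (W : Closeds X) (F : EtCoh.Ab X) {Ω : Type u} [Field Ω] [IsSepClosed Ω]
    (ξ : Spec (CommRingCat.of Ω) ⟶ X) (V : X.Etale) (z : (Scheme.pointSmallEtale ξ).fiber.obj V)
    (s : F.obj.obj (op V)) (hs : ∀ q ∈ germSupp F V s, V.hom.base q ∈ W) :
    ∃ c : (EtCoh.stalk ξ).obj ((sub W).obj F),
      (EtCoh.stalk ξ).map (subι W F) c = (Scheme.pointSmallEtale ξ).toPresheafFiber V z F.obj s := by
  let S := ShortComplex.mk (subι W F) (EtDual.unitApp (cj W) F) (kernel.condition _)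
  have hS : (S.map (EtCoh.stalk ξ)).Exact :=
    (exact_iff_stalks S).1 (ShortComplex.exact_of_f_is_kernel _ (kernelIsKernel _)) Ω ξ
  refine ((ShortComplex.ab_exact_iff _).1 hS) ((Scheme.pointSmallEtale ξ).toPresheafFiber V z F.obj s) ?_
  refine ((Scheme.pointSmallEtale ξ).toPresheafFiber_naturality_apply (EtDual.unitApp (cj W) F).hom V z s).trans ?_
  exact (congrArg _ (exists_sect_lift W F V s hs)).trans (map_zero _)

theorem fiber_map_eq (F : EtCoh.Ab X) {Ω : Type u} [Field Ω] [IsSepClosed Ω]
    (ξ : Spec (CommRingCat.of Ω) ⟶ X) {V V₀ : X.Etale} (r : V ⟶ V₀)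
    (z : (Scheme.pointSmallEtale ξ).fiber.obj V) (z₀ : (Scheme.pointSmallEtale ξ).fiber.obj V₀)
    (hz : (Scheme.pointSmallEtale ξ).fiber.map r z = z₀) (s₀ : F.obj.obj (op V₀)) :
    (Scheme.pointSmallEtale ξ).toPresheafFiber V z F.obj (F.obj.map r.op s₀) =
      (Scheme.pointSmallEtale ξ).toPresheafFiber V₀ z₀ F.obj s₀ := by
  subst hz
  exact (Scheme.pointSmallEtale ξ).toPresheafFiber_w_apply r z F.obj s₀

/-- every sheaf is the filtered colimit of its subsheaves supported in members of a family containing the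
closures of the points of its support -/
theorem exists_colimit_sub [IsNoetherian X] (F : EtCoh.Ab X) (P : Closeds X → Prop) (hbot : P ⊥)
    (hsup : ∀ A B, P A → P B → P (A ⊔ B)) (hpt : ∀ y ∈ EtPBC.supp F, P (Closeds.closure {y})) :
    ∃ (J : Type (u + 1)) (_ : SmallCategory J) (_ : IsFiltered J) (D : J ⥤ EtCoh.Ab X)
      (c : Cocone D) (_ : IsColimit c), Nonempty (c.pt ≅ F) ∧
      ∀ j, ∃ W : Closeds X, P W ∧ Nonempty (D.obj j ≅ (sub W).obj F) := by
  classical
  let J := {W : ULift.{u + 1} (Closeds X) // P W.down}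
  letI : Preorder J := Preorder.lift fun W => W.1.down
  haveI : IsDirected J (· ≤ ·) :=
    ⟨fun a b => ⟨⟨⟨a.1.down ⊔ b.1.down⟩, hsup _ _ a.2 b.2⟩, le_sup_left (α := Closeds X), le_sup_right (α := Closeds X)⟩⟩
  haveI : Nonempty J := ⟨⟨⟨⊥⟩, hbot⟩⟩
  let D : J ⥤ EtCoh.Ab X :=
    { obj := fun W => (sub W.1.down).obj F
      map := fun {a b} h => subMap (show a.1.down ≤ b.1.down from leOfHom (X := J) h) F
      map_id := fun a => by rw [← @cancel_mono _ _ _ _ _ (subι a.1.down F) (equalizer.ι_mono), subMap_ι, Category.id_comp]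
      map_comp := fun {a b c} f g => by rw [← @cancel_mono _ _ _ _ _ (subι c.1.down F) (equalizer.ι_mono), Category.assoc, subMap_ι, subMap_ι, subMap_ι] }
  let c : Cocone D := ⟨F, { app := fun a => subι a.1.down F
                            naturality := fun a b f => (subMap_ι (show a.1.down ≤ b.1.down from leOfHom (X := J) f) F).trans (Category.comp_id _).symm }⟩
  let m : colimit D ⟶ F := colimit.desc D c
  have hm : ∀ j : J, colimit.ι D j ≫ m = subι j.1.down F := fun j => colimit.ι_desc c j
  have hiso : IsIso m := by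
    rw [isIso_iff_stalks]
    intro Ω _ _ ξ
    let Φ := Scheme.pointSmallEtale ξ
    have : PreservesColimitsOfSize.{u + 1, u + 1} (EtCoh.stalk ξ) :=
      (Φ.skyscraperSheafAdjunction (A := AddCommGrpCat.{u + 1})).leftAdjoint_preservesColimits
    have hl := isColimitOfPreserves (EtCoh.stalk ξ) (colimit.isColimit D)
    have happ : ∀ (j : J) (d : (EtCoh.stalk ξ).obj (D.obj j)),
        (EtCoh.stalk ξ).map m ((EtCoh.stalk ξ).map (colimit.ι D j) d) = (EtCoh.stalk ξ).map (subι j.1.down F) d :=
      fun j d => by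
        rw [← ConcreteCategory.comp_apply, ← Functor.map_comp]
        exact congrArg (fun q => (EtCoh.stalk ξ).map q d) (hm j)
    rw [ConcreteCategory.isIso_iff_bijective]
    refine ⟨(injective_iff_map_eq_zero ((EtCoh.stalk ξ).map m).hom).2 fun x hx => ?_, fun x => ?_⟩
    · obtain ⟨j, d, rfl⟩ := Concrete.isColimit_exists_rep _ hl x
      have hinj := (mono_iff_stalks (subι j.1.down F)).1 inferInstance Ω ξ
      have hd : d = 0 := hinj ((happ j d).symm.trans (hx.trans (map_zero _).symm))
      rw [hd]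
      exact map_zero _
    · obtain ⟨V₀, z₀, s₀, rfl⟩ := Φ.toPresheafFiber_jointly_surjective x
      obtain ⟨V, hV, r, z, hz⟩ := exists_affine_nhd V₀ z₀
      obtain ⟨T, hT, hTs⟩ := exists_finset_germSupp F V (F.obj.map r.op s₀)
      have hW : P (T.sup fun y => Closeds.closure {y}) :=
        Finset.sup_induction hbot (fun A hA B hB => hsup A B hA hB) fun y hy => hpt y (hT hy)
      obtain ⟨d, hd⟩ := exists_stalk_lift (T.sup fun y => Closeds.closure {y}) F ξ V z (F.obj.map r.op s₀) fun q hq => by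
        obtain ⟨y, hy, hqy⟩ := Set.mem_iUnion₂.1 (hTs q hq)
        exact (Finset.le_sup (f := fun y => Closeds.closure {y}) hy) hqy
      let j : J := ⟨⟨T.sup fun y => Closeds.closure {y}⟩, hW⟩
      exact ⟨(EtCoh.stalk ξ).map (colimit.ι D j) d,
        ((happ j d).trans hd).trans (fiber_map_eq F ξ r z z₀ hz s₀)⟩
  refine ⟨J, inferInstance, inferInstance, D, colimit.cocone D, colimit.isColimit D, ⟨@asIso _ _ _ _ m hiso⟩, ?_⟩
  intro j
  exact ⟨j.1.down, j.2, ⟨eqToIso rfl⟩⟩

end Groth.Agent.EtSupp70
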