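import Groth.Agent.EtSupp70.CdField
import Groth.Agent.BrauerXCurve.ClosedSupp
import Groth.Agent.GalEt.RatVanish
import Groth.Agent.EtDerLib.RpushLoc

/-!
# Higher direct images of torsion sheaves from the spectrum of a field of cohomological dimension one
-/

universe u

open CategoryTheory CategoryTheory.Limits AlgebraicGeometry Opposite CategoryTheory.Abelian

namespace Groth.Agent.EtSupp70

open Groth.Agent.GalEt Groth.Agent.EtPBC63

set_option backward.isDefEq.respectTransparency.types false

variable {K : Type u} [Field K]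

set_option maxHeartbeats 1000000 in
/-- cohomology on quasi-compact étale schemes over a field -/
theorem H_pull_eq_zero (G : EtCoh.Ab (Spec (CommRingCat.of K))) {n : ℕ}
    (h : ∀ (L : Type u) [Field L] [Algebra K L] [FiniteDimensional K L] [Algebra.IsSeparable K L],
      Subsingleton (EtCoh.H (Spec (CommRingCat.of L)) ((EtCoh.pull (specOver K L)).obj G) (n + 1)))
    (Z : (Spec (CommRingCat.of K)).Etale) [CompactSpace Z.left]
    (x : EtCoh.H Z.left ((EtCoh.pull Z.hom).obj G) (n + 1)) : x = 0 := by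
  classical
  haveI : AlgebraicGeometry.Etale Z.hom := Z.prop
  obtain ⟨ι, L, hF, hA, hL, e, he⟩ := S9714.forward (k := K) (Z.hom : Z.left ⟶ Spec (CommRingCat.of K))
  let S : ι → Scheme.{u} := fun i => Spec (CommRingCat.of (L i))
  let g : ∀ i, S i ⟶ Z.left := fun i => Sigma.ι S i ≫ e.inv
  let O : ι → Z.left.Opens := fun i => (g i).opensRange
  have key : ∀ i, pullExt (O i).ι x = 0 := fun i => by
    haveI := (hL i).1
    haveI := (hL i).2
    haveI := EtFound.pull_preservesFiniteLimits (g i)
    have hg : g i ≫ Z.hom = specOver K (L i) := by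
      rw [← he]
      simp only [g, S, Category.assoc, Iso.inv_hom_id_assoc]
      exact Sigma.ι_desc _ _
    let j := ((EtCore.pullComp (g i) Z.hom).symm ≪≫ EtCore.pullCongr hg).app G
    have hsub : Subsingleton (EtCoh.H (S i)
        ((EtCoh.pull (g i)).obj ((EtCoh.pull Z.hom).obj G)) (n + 1)) :=
      haveI := h (L i)
      EtSupp70.subsingleton_H_of_iso j.symm (n + 1)
    have h0 : pullExt (g i) x = 0 := (Hpull_eq_zero_iff (g i) _ (n + 1) x).1 (@Subsingleton.elim _ hsub _ _)
    have h1 : IsOpenImmersion.lift (g i) (O i).ι (by rw [Scheme.Opens.range_ι]; exact subset_rfl) ≫ g i = (O i).ι :=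
      IsOpenImmersion.lift_fac _ _ _
    exact (pullExt_eq_zero_of_comp h1 x).1 (by rw [h0, pullExt_zero])
  have hdisj : Pairwise fun i j => O i ⊓ O j = ⊥ := fun i j hij => by
    refine TopologicalSpace.Opens.ext (Set.eq_empty_iff_forall_notMem.2 ?_)
    rintro p ⟨⟨a, ha⟩, b, hb⟩
    have h2 : (Sigma.ι S i) a = (Sigma.ι S j) b := by
      have h3 := congrArg (fun q => e.hom q) (ha.trans hb.symm)
      dsimp only at h3
      have hi : ∀ (l : ι) (c : S l), e.hom (g l c) = Sigma.ι S l c := fun l c => by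
        rw [← Scheme.Hom.comp_apply]
        exact congrArg (fun m : S l ⟶ ∐ S => m c) (by simp only [g, Category.assoc, Iso.inv_hom_id, Category.comp_id])
      exact (hi i a).symm.trans (h3.trans (hi j b))
    exact Set.disjoint_left.1 (TopologicalSpace.Opens.coe_disjoint.2 (disjoint_opensRange_sigmaι S i j hij))
      ⟨a, rfl⟩ ⟨b, h2.symm⟩
  obtain ⟨T, hT⟩ := isCompact_univ.elim_finite_subcover (fun i => (O i : Set Z.left))
    (fun i => (O i).isOpen) (fun p _ => by
      obtain ⟨i, a, ha⟩ := (sigmaOpenCover S).exists_eq (e.hom.base p)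
      refine Set.mem_iUnion.2 ⟨i, a, ?_⟩
      change (Sigma.ι S i ≫ e.inv).base a = p
      refine (Scheme.Hom.comp_apply _ _ _).trans ((congrArg e.inv.base ha).trans ?_)
      rw [← Scheme.Hom.comp_apply, e.hom_inv_id]
      rfl)
  have hsup : ∀ T : Finset ι, pullExt (T.sup O).ι x = 0 := fun T => by
    induction T using Finset.induction_on with
    | empty =>
      rw [Finset.sup_empty]
      haveI : IsEmpty (⊥ : Z.left.Opens).toScheme := ⟨fun p => p.2⟩
      haveI := EtFound.pull_preservesFiniteLimits (⊥ : Z.left.Opens).ι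
      exact (Hpull_eq_zero_iff _ _ (n + 1) x).1 (H_eq_zero_of_isEmpty _ _ _)
    | insert i T hi ih =>
      rw [Finset.sup_insert]
      refine killed_sup (disjoint_iff.1 (Finset.disjoint_sup_right.2 fun j hj => disjoint_iff.2 (hdisj ?_))) x (key i) ih
      exact fun hij => hi (hij ▸ hj)
  refine eq_zero_of_killed_top x ?_
  have hTop : T.sup O = ⊤ := top_unique fun p _ => by
    obtain ⟨i, hi, hp⟩ := Set.mem_iUnion₂.1 (hT (Set.mem_univ p))
    exact Finset.le_sup (f := O) hi hp
  rw [← hTop]
  exact hsup T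

/-- higher direct images from the spectrum of a field -/
theorem isZero_Rpush_field {X : Scheme.{u}} (f : Spec (CommRingCat.of K) ⟶ X) [EtCoh.BCCont f] [QuasiCompact f]
    (G : EtCoh.Ab (Spec (CommRingCat.of K))) {n : ℕ}
    (h : ∀ (L : Type u) [Field L] [Algebra K L] [FiniteDimensional K L] [Algebra.IsSeparable K L],
      Subsingleton (EtCoh.H (Spec (CommRingCat.of L)) ((EtCoh.pull (specOver K L)).obj G) (n + 1))) :
    IsZero ((EtCoh.Rpush f (n + 1)).obj G) := by
  refine (EtDerLib.isZero_Rpush_iff f n _).2 fun V ξ v => ?_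
  obtain ⟨O, hO, hvO, -⟩ := exists_isAffineOpen_mem_and_subset (Set.mem_univ v) (U := (⊤ : V.left.Opens))
  let W := EtFound.restrictEtale V O
  haveI : IsAffine W.left := hO
  haveI : CompactSpace ((EtCoh.bc f).obj W).left :=
    @QuasiCompact.compactSpace_of_compactSpace _ _ (pullback.fst W.hom f : ((EtCoh.bc f).obj W).left ⟶ W.left)
      (MorphismProperty.pullback_fst W.hom f ‹QuasiCompact f›)
      (isCompact_univ_iff.1 (isAffineOpen_top W.left).isCompact)
  refine ⟨W, EtFound.restrictEtaleHom V O, 1, ⟨⟨v, hvO⟩, rfl⟩, EtDerLib.primesIn_one _, ?_⟩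
  refine (one_nsmul _).trans ((EtDerLib.toH_bijective _ _ _).1 ?_)
  exact (H_pull_eq_zero G h _ _).trans (map_zero _).symm

/-- `R¹` of the inclusion of a point vanishes at the point -/
theorem notMem_supp_Rpush_one {X : Scheme.{u}} (η : X) (G : EtCoh.Ab (Spec (X.residueField η))) :
    η ∉ EtPBC.supp ((EtCoh.Rpush (X.fromSpecResidueField η) 1).obj G) := by
  intro hmem
  let i := X.fromSpecResidueField η
  let S := EtMVLib.injSES G
  haveI : (EtCoh.pull i).IsLeftAdjoint := (EtCoh.pullPushAdj i).isLeftAdjoint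
  haveI : Epi S.g := (EtMVLib.injSES_shortExact G).epi_g
  let v := (EtCoh.push i).map S.g
  haveI : IsIso ((EtCoh.pullPushAdj i).counit.app S.X₂) := counit_isIso_fromSpecResidueField X η _
  haveI : IsIso ((EtCoh.pullPushAdj i).counit.app S.X₃) := counit_isIso_fromSpecResidueField X η _
  haveI : Epi ((EtCoh.pull i).map v) := by
    have h := (EtCoh.pullPushAdj i).counit_naturality S.g
    rw [← IsIso.eq_comp_inv] at h
    exact h ▸ inferInstance
  have hz : IsZero ((EtCoh.pull i).obj (cokernel v)) := by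
    refine IsZero.of_epi_eq_zero ((EtCoh.pull i).map (cokernel.π v)) ?_
    rw [← cancel_epi ((EtCoh.pull i).map v), ← Functor.map_comp, cokernel.condition, Functor.map_zero,
      comp_zero]
  obtain ⟨e⟩ := nonempty_cokernel_push_iso i G
  have hz' : IsZero ((EtCoh.pull i).obj ((EtCoh.Rpush i 1).obj G)) := hz.of_iso ((EtCoh.pull i).mapIso e.symm)
  rw [isZero_pull_iff, Scheme.range_fromSpecResidueField] at hz'
  exact Set.disjoint_left.1 hz' rfl hmem

/-- cohomology of the direct image from a point of dimension one, above degree two -/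
theorem subsingleton_H_push_curvePoint {X : Scheme.{u}} [IsNoetherian X] {ℓ : ℕ} (hℓ : ℓ.Prime)
    (hsep : ∀ x : X, IsClosed ({x} : Set X) → IsSepClosed (X.residueField x))
    (η : X) (hclosed : ∀ y : X, η ⤳ y → y ≠ η → IsClosed ({y} : Set X))
    (hη : Curves.IsCi (X.residueField η) 1) (G : EtCoh.Ab (Spec (X.residueField η)))
    (hG : EtAcyc.IsLTorsion {ℓ} G) (q : ℕ) (hq : 2 < q) :
    Subsingleton (EtCoh.H X ((EtCoh.push (X.fromSpecResidueField η)).obj G) q) := by
  obtain ⟨r, rfl⟩ : ∃ r, q = r + 1 := ⟨q - 1, by omega⟩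
  refine subsingleton_H_push_of_Rpush (X.fromSpecResidueField η) r G
    (cohDimLEAt_one_of_isCi (X.residueField η) hη hℓ G ((isPrimaryTorsion_iff hℓ G).2 hG) _ (by omega))
    fun a p hap => ?_
  rcases Nat.eq_zero_or_pos p with rfl | hp
  · obtain ⟨b, rfl⟩ : ∃ b, a = b + 1 := ⟨a - 1, by omega⟩
    refine BrauerXCurve.subsingleton_H_supp_closedPoints hsep _ (fun y hy => ?_) b
    have hne : y ≠ η := fun h => notMem_supp_Rpush_one η G (h ▸ hy)
    obtain ⟨e⟩ := nonempty_cokernel_push_iso (X.fromSpecResidueField η) G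
    have h1 := supp_push_subset (X.fromSpecResidueField η) _
      (supp_subset_of_epi (cokernel.π _ ≫ e.hom) hy)
    rw [Scheme.range_fromSpecResidueField] at h1
    exact hclosed y (specializes_iff_mem_closure.2 h1) hne
  · refine subsingleton_H_of_isZero ?_ a
    refine isZero_Rpush_field (K := X.residueField η) (X.fromSpecResidueField η) G (fun L _ _ _ _ => ?_)
    exact cohDimLEAt_one_of_isCi L (TsenLib.isCi_of_isAlgebraic hη) hℓ _
      ((isPrimaryTorsion_iff hℓ _).2 (EtDerLib.isLTorsion_pull _ hG)) _ (by omega)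

end Groth.Agent.EtSupp70
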