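import Groth.Agent.EtSupp70.CdField
import Groth.Agent.EtSupp70.PointRpush
import Groth.Agent.VarDim.Fibre

/-!
# Cohomological dimension of curves over algebraically closed fields
-/

universe u

open CategoryTheory CategoryTheory.Limits AlgebraicGeometry Opposite TopologicalSpace
open scoped TensorProduct

namespace Groth.Agent.EtSupp70

set_option backward.isDefEq.respectTransparency.types false

variable {k : Type u} [Field k] [IsAlgClosed k] {X : Scheme.{u}} (f : X ⟶ Spec (CommRingCat.of k))
  [LocallyOfFiniteType f]

/-- residue fields of points of degree zero are separably closed -/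
theorem isSepClosed_residueField_of_deg_eq_zero (x : X) (hx : VarDim.deg f x = 0) :
    IsSepClosed (X.residueField x) := by
  letI := (VarDim.resHom f x).toAlgebra
  haveI : Algebra.IsAlgebraic k (X.residueField x) := by
    rw [← trdeg_eq_zero_iff]
    exact ((VarDim.deg_eq_tdeg f x).symm.trans (congrArg Nat.cast hx)).trans Nat.cast_zero
  haveI : Algebra.IsIntegral k (X.residueField x) := Algebra.IsAlgebraic.isIntegral
  exact Hensel.isSepClosed_of_ringEquiv (RingEquiv.ofBijective (algebraMap k (X.residueField x))
    (IsAlgClosed.algebraMap_bijective_of_isIntegral (k := k) (K := X.residueField x)))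

/-- residue fields of points of degree at most one are `C₁` -/
theorem isCi_one_residueField (x : X) (hx : VarDim.deg f x ≤ 1) : Curves.IsCi (X.residueField x) 1 := by
  letI := (VarDim.resHom f x).toAlgebra
  exact TsenLib.isCi_mono hx (TsenLib.tsen_lang (VarDim.deg_eq_tdeg f x).symm)

theorem deg_le_one (hdim : topologicalKrullDim X ≤ 1) (x : X) : VarDim.deg f x ≤ 1 := by
  rw [VarDim.topologicalKrullDim_eq_iSup_deg f] at hdim
  have h := (le_iSup (fun z : X => ((VarDim.deg f z : ℕ∞) : WithBot ℕ∞)) x).trans hdim
  exact_mod_cast h

include f in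
/-- residue fields of closed points are separably closed -/
theorem isSepClosed_residueField_of_isClosed (x : X) (hx : IsClosed ({x} : Set X)) :
    IsSepClosed (X.residueField x) :=
  isSepClosed_residueField_of_deg_eq_zero f x ((VarDim.closedPoint_iff_deg_eq_zero f x).1 hx)

include f in
/-- proper specialisations are closed -/
theorem isClosed_of_specializes (hdim : topologicalKrullDim X ≤ 1) {x y : X} (hxy : x ⤳ y) (hne : y ≠ x) :
    IsClosed ({y} : Set X) := by
  have h := VarDim.deg_strictMono f (lt_iff_le_not_ge.2 ⟨hxy, fun h => hne (hxy.antisymm h).eq.symm⟩)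
  have := deg_le_one f hdim x
  exact (VarDim.closedPoint_iff_deg_eq_zero f y).2 (by omega)

/-- a curve over an algebraically closed field has cohomological dimension at most two -/
theorem cohDimLE_two_of_curve [QuasiCompact f] (hdim : topologicalKrullDim X ≤ 1) : EtCoh.CohDimLE X 2 := by
  haveI : IsLocallyNoetherian X := LocallyOfFiniteType.isLocallyNoetherian f
  haveI : CompactSpace X := QuasiCompact.compactSpace_of_compactSpace f
  haveI : IsNoetherian X := {}
  have hsep := fun x hx => isSepClosed_residueField_of_isClosed f x hx
  refine cohDimLE_of_forall_cohDimLEAt fun ℓ hℓ F hF q hq => ?_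
  refine subsingleton_H_of_dimFunction (isDevissageClass_isLTorsion {ℓ}) (fun x => 2 * VarDim.deg f x)
    (fun {x y} hxy hne => ?_) (fun G x r hG hr => ?_) (q - 1) F q ((isPrimaryTorsion_iff hℓ F).1 hF)
    (fun x _ => by have := deg_le_one f hdim x; omega) (by omega)
  · have := VarDim.deg_strictMono f (lt_iff_le_not_ge.2 ⟨hxy, fun h => hne (hxy.antisymm h).eq⟩)
    omega
  · rcases Nat.eq_zero_or_pos (VarDim.deg f x) with h | h
    · obtain ⟨b, rfl⟩ : ∃ b, r = b + 1 := ⟨r - 1, by omega⟩
      refine BrauerXCurve.subsingleton_H_supp_closedPoints hsep _ (fun y hy => ?_) b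
      have h1 := supp_push_subset (X.fromSpecResidueField x) _ hy
      have hc := (VarDim.closedPoint_iff_deg_eq_zero f x).2 h
      rw [Scheme.range_fromSpecResidueField, hc.closure_eq, Set.mem_singleton_iff] at h1
      exact h1 ▸ hc
    · exact subsingleton_H_push_curvePoint hℓ hsep x (fun y => isClosed_of_specializes f hdim)
        (isCi_one_residueField f x (deg_le_one f hdim x)) _ (EtDerLib.isLTorsion_pull _ hG) r
        (by have := deg_le_one f hdim x; omega)

end Groth.Agent.EtSupp70
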