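import Groth.Agent.EtSupp70.Torsion
import Groth.Agent.TsenLib.Norm
import Groth.Agent.IndEtLib.Sys
import Groth.Agent.BrauerXKummer.Basic
import Groth.Agent.S7732
import Groth.Agent.S7733
import Mathlib.RingTheory.Unramified.Finite
import Mathlib.RingTheory.Etale.Field

/-!
# Cohomological dimension of `C₁` fields, and reduction of `cd` to primary sheaves
-/

universe u

open CategoryTheory CategoryTheory.Limits AlgebraicGeometry Opposite CategoryTheory.Abelian
open scoped TensorProduct

namespace Groth.Agent.EtSupp70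

set_option backward.isDefEq.respectTransparency.types false

open MvPolynomial in
/-- norms from finite extensions of `C₁` fields are surjective -/
theorem norm_surjective_of_isCr_one {K L : Type*} [Field K] [Field L] [Algebra K L] [FiniteDimensional K L]
    (h : Curves.IsCr K 1) (x : K) : ∃ y : L, Algebra.norm K y = x := by
  classical
  let b := Module.finBasis K L
  let e := Module.finrank K L
  let M : Matrix (Fin e) (Fin e) (MvPolynomial (Fin (e + 1)) K) :=
    Matrix.of fun a c => ∑ j : Fin e, C (Algebra.leftMulMatrix b (b j) a c) * X j.castSucc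
  have hM : M.det.IsHomogeneous (e * 1) := TsenLib.isHomogeneous_det M fun a c => by
    simp only [M, Matrix.of_apply]
    exact IsHomogeneous.sum _ _ _ fun j _ => isHomogeneous_C_mul_X _ _
  rw [mul_one] at hM
  have he : 0 < e := Module.finrank_pos
  obtain ⟨a, ha, ha'⟩ := h (e + 1) e (M.det - C x * X (Fin.last e) ^ e)
    (hM.sub (IsHomogeneous.C_mul (isHomogeneous_X_pow _ _) _)) he (by rw [pow_one]; omega)
  let z : L := ∑ j : Fin e, a j.castSucc • b j
  have hz : M.det.eval a = Algebra.norm K z := by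
    rw [RingHom.map_det, RingHom.mapMatrix_apply, Algebra.norm_eq_matrix_det b]
    congr 1
    ext r c
    simp only [M, z, Matrix.map_apply, Matrix.of_apply, map_sum, map_smul, map_mul, eval_C, eval_X,
      Matrix.sum_apply, Matrix.smul_apply, smul_eq_mul, mul_comm]
  rw [map_sub, map_mul, map_pow, eval_C, eval_X, hz, sub_eq_zero] at ha'
  rcases eq_or_ne (a (Fin.last e)) 0 with ht | ht
  · refine absurd (_root_.funext fun j => ?_) ha
    rw [ht, zero_pow he.ne', mul_zero, Algebra.norm_eq_zero_iff] at ha'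
    induction j using Fin.lastCases with
    | last => exact ht
    | cast j => exact Fintype.linearIndependent_iff.1 b.linearIndependent _ ha' j
  · refine ⟨(a (Fin.last e))⁻¹ • z, ?_⟩
    rw [Algebra.smul_def, map_mul, Algebra.norm_algebraMap, ha']
    change (a (Fin.last e))⁻¹ ^ e * _ = x
    rw [inv_pow, mul_comm x, ← mul_assoc, inv_mul_cancel₀ (pow_ne_zero _ ht), one_mul]

/-- a `C₁` field has cohomological dimension at most one at every prime -/
theorem cohDimLEAt_one_of_isCi (K : Type u) [Field K] (h : Curves.IsCi K 1) {ℓ : ℕ} (hℓ : ℓ.Prime) :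
    Dix.CohDimLEAt (Spec (CommRingCat.of K)) ℓ 1 := by
  haveI := Fact.mk hℓ
  intro F hF q hq
  have hL := (isPrimaryTorsion_iff hℓ F).1 hF
  have hT : EtCoh.IsTorsion F := fun U s x => by
    obtain ⟨V, g, hv, m, hm⟩ := hF U s x
    exact ⟨V, g, hv, isOfFinAddOrder_iff_nsmul_eq_zero.2 ⟨_, pow_pos hℓ.pos m, hm⟩⟩
  refine subsingleton_of_forall_eq 0 fun x => ?_
  obtain ⟨m, hm, hmx⟩ := EtDerLib.exists_nsmul_H_eq_zero F hL q x
  have hx : ∃ j : ℕ, ℓ ^ j • x = 0 := ⟨m.primeFactorsList.length, by
    rw [← Nat.eq_prime_pow_of_unique_prime_dvd hm.1.ne' (p := ℓ) fun {d} hd hdm => hm.2 d hd hdm]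
    exact hmx⟩
  rcases eq_or_ne (ℓ : K) 0 with hp | hp
  · haveI : CharP K ℓ := by
      obtain ⟨c, hc⟩ := CharP.exists K
      have hd := (CharP.cast_eq_zero_iff K c ℓ).1 hp
      rcases (Nat.dvd_prime hℓ).1 hd with rfl | rfl
      · exact absurd rfl (CharP.char_ne_one K 1)
      · exact hc
    exact S7733.result K ℓ F hT q hq x hx
  · have h3 := (S7732.result K ℓ hp).out 2 0
    refine h3.1 (fun K' _ _ _ L _ _ _ _ _ z _ => ?_) F hT q hq x hx
    exact norm_surjective_of_isCr_one (TsenLib.isCr_one_of_isCi (TsenLib.isCi_of_isAlgebraic h)) z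

/-- residue fields of ind-étale algebras are algebraic, hence inherit `C₁` -/
theorem isCi_fractionRing_quotient {A B : Type u} [CommRing A] [CommRing B] [Algebra A B]
    (hB : EtPBC.IsIndEtale A B) (p : Ideal A) [p.IsPrime] (P : Ideal B) [P.IsPrime] [P.LiesOver p]
    {i : ℕ} (h : Curves.IsCi p.ResidueField i) : Curves.IsCi (FractionRing (B ⧸ P)) i := by
  obtain ⟨S, hS, ⟨e⟩⟩ := IndEtLib.exists_sys hB
  letI : Algebra p.ResidueField P.ResidueField :=
    (Ideal.ResidueField.map p P (algebraMap A B) (P.over_def p)).toAlgebra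
  haveI : IsScalarTower A p.ResidueField P.ResidueField := IsScalarTower.of_algebraMap_eq fun a => by
    rw [RingHom.algebraMap_toAlgebra, Ideal.ResidueField.map_algebraMap, ← IsScalarTower.algebraMap_apply]
  suffices Algebra.IsAlgebraic p.ResidueField P.ResidueField by
    exact TsenLib.isCi_of_ringEquiv (FractionRing.algEquiv (B ⧸ P) P.ResidueField).symm.toRingEquiv
      (TsenLib.isCi_of_isAlgebraic (L := P.ResidueField) h)
  have hb : ∀ b : B, IsAlgebraic p.ResidueField (algebraMap B P.ResidueField b) := by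
    intro b
    obtain ⟨j, y, hy⟩ := S.exists_lift_finset ({()} : Finset Unit) fun _ => e.symm b
    let ι : S.A j →ₐ[A] B := e.toAlgHom.comp (S.ι j)
    haveI := hS j
    haveI : Module.Finite p.ResidueField (p.ResidueField ⊗[A] S.A j) :=
      Algebra.Etale.iff_exists_algEquiv_prod p.ResidueField (p.ResidueField ⊗[A] S.A j)
        |>.1 inferInstance |>.elim fun I ⟨_, Ai, _, _, e', he'⟩ => by
          haveI := fun i => (he' i).1
          exact Module.Finite.equiv e'.symm.toLinearEquiv
    let ψ : p.ResidueField ⊗[A] S.A j →ₐ[p.ResidueField] P.ResidueField :=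
      Algebra.TensorProduct.lift (Algebra.ofId _ _) ((IsScalarTower.toAlgHom A B P.ResidueField).comp ι)
        fun _ _ => Commute.all _ _
    have : ψ (1 ⊗ₜ y ()) = algebraMap B P.ResidueField b := by
      rw [Algebra.TensorProduct.lift_tmul, map_one, one_mul]
      exact congrArg (algebraMap B P.ResidueField)
        ((congrArg e (hy () (Finset.mem_singleton_self ()))).trans (e.apply_symm_apply b))
    exact this ▸ ((Algebra.IsIntegral.isIntegral _).map ψ).isAlgebraic
  refine ⟨fun z => ?_⟩
  obtain ⟨a, c, -, rfl⟩ := IsFractionRing.div_surjective (A := B ⧸ P) z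
  obtain ⟨a, rfl⟩ := Ideal.Quotient.mk_surjective a
  obtain ⟨c, rfl⟩ := Ideal.Quotient.mk_surjective c
  exact (hb a).mul (hb c).inv

variable {X : Scheme.{u}} [IsNoetherian X] {d : ℕ}

/-- sheaves killed by a positive integer -/
theorem subsingleton_H_of_killed (h : ∀ ℓ : ℕ, ℓ.Prime → Dix.CohDimLEAt X ℓ d) {q : ℕ} (hq : d < q) :
    ∀ (m : ℕ), 0 < m → ∀ G : EtCoh.Ab X, m • 𝟙 G = 0 → Subsingleton (EtCoh.H X G q) := by
  intro m
  induction m using Nat.strong_induction_on with
  | _ m ih =>
  intro hm G hG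
  rcases eq_or_ne m 1 with rfl | hm1
  · exact subsingleton_H_of_isZero ((IsZero.iff_id_eq_zero G).2 (by simpa using hG)) q
  obtain ⟨p, hp, a, rfl⟩ := Nat.exists_prime_and_dvd hm1
  have ha : 0 < a := Nat.pos_of_mul_pos_left hm
  let f := p • 𝟙 G
  let S : ShortComplex (EtCoh.Ab X) :=
    ShortComplex.mk (kernel.ι f) (Abelian.factorThruImage f) (by
      rw [← cancel_mono (Abelian.image.ι f), Category.assoc, Abelian.image.fac, zero_comp, kernel.condition])
  have hS : S.ShortExact :=
    { exact := ShortComplex.exact_of_f_is_kernel _ (by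
        refine KernelFork.IsLimit.ofι _ _ (fun g hg => kernel.lift f g (by
          rw [← Abelian.image.fac f, reassoc_of% hg, zero_comp])) (fun g hg => kernel.lift_ι _ _ _)
          (fun g hg b hb => by
            rw [← cancel_mono (kernel.ι f)]
            exact hb.trans (kernel.lift_ι _ _ _).symm)) }
  refine subsingleton_H_middle hS q ?_ (ih a (lt_mul_of_one_lt_left ha hp.one_lt) ha _ ?_)
  · exact h p hp _ (BrauerXKummer.isPrimaryTorsion_of_nsmul_eq_zero (EtPBC63.killedBy_kernel_nsmul G p)) q hq
  · show a • 𝟙 (Abelian.image f) = 0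
    rw [← cancel_epi (Abelian.factorThruImage f), ← cancel_mono (Abelian.image.ι f), comp_zero, zero_comp,
      Preadditive.comp_nsmul, Category.comp_id, Preadditive.nsmul_comp, Abelian.image.fac]
    show a • (p • 𝟙 G) = 0
    rw [← mul_nsmul]
    exact hG

/-- the cohomological dimension is detected on primary torsion sheaves -/
theorem cohDimLE_of_forall_cohDimLEAt (h : ∀ ℓ : ℕ, ℓ.Prime → Dix.CohDimLEAt X ℓ d) : EtCoh.CohDimLE X d := by
  intro F hF q hq
  obtain ⟨J, _, _, D, c, hc, ⟨e⟩, hD⟩ := EtPBC63.exists_colimit_constructible F hF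
  haveI := subsingleton_H_of_colimit hc q fun j => by
    obtain ⟨m, hm, hjm⟩ := EtFound.exists_killedBy X (hD j)
    exact subsingleton_H_of_killed h hq m hm (D.obj j) hjm
  exact subsingleton_H_of_iso e q

end Groth.Agent.EtSupp70
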