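import Groth.Agent.EtSupp70.StrictFibre
import Groth.Agent.S0538
import Groth.Agent.S0541
import Mathlib.RingTheory.KrullDimension.NonZeroDivisors

/-!
# Codimensions along a strict localization
-/

universe u

open CategoryTheory CategoryTheory.Limits AlgebraicGeometry Opposite

namespace Groth.Agent.EtSupp70

set_option backward.isDefEq.respectTransparency.types false

variable {X : Scheme.{u}}

/-- a chain of proper generisations adds to the codimension -/
theorem coheight_add_le_of_strictMono {α β : Type*} [Preorder α] [Preorder β] (g : α → β)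
    (hg : ∀ a b : α, a < b → g b < g a) (s : LTSeries α) :
    ∀ i : Fin (s.length + 1), Order.coheight (g (s 0)) + (i : ℕ) ≤ Order.coheight (g (s i)) := by
  intro i
  induction i using Fin.induction with
  | zero => simp
  | succ j ih =>
    have h1 : g (s j.succ) < g (s j.castSucc) := hg _ _ (s.step j)
    have h2 := Order.coheight_add_one_le h1
    refine le_trans ?_ h2
    rw [Fin.val_succ, Nat.cast_add, Nat.cast_one, ← add_assoc]
    exact add_le_add_left (by simpa using ih) 1

variable [IsNoetherian X] {x y : X} (hxy : x ⤳ y) (R : Type u) [CommRing R] [IsLocalRing R]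
  [Algebra (X.presheaf.stalk y) R] [IsLocalHom (algebraMap (X.presheaf.stalk y) R)]
  [Hensel.IsStrictHenselization (X.presheaf.stalk y) R]

theorem exists_dim_closure_strictLocalization (hne : x ≠ y) :
    ∃ e : ℕ, ringKrullDim (R ⧸ (RingHom.ker (Cyc.specMap y x hxy)).map (algebraMap (X.presheaf.stalk y) R)) = e ∧
      1 ≤ e ∧ Order.coheight x + e ≤ Order.coheight y := by
  set p := RingHom.ker (Cyc.specMap y x hxy)
  haveI : p.IsPrime := RingHom.ker_isPrime _
  set I := p.map (algebraMap (X.presheaf.stalk y) R)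
  haveI : IsNoetherianRing R := (S0540.result (X.presheaf.stalk y) R).1 inferInstance
  have hl := Hensel.isHenzLike_of_isStrictHenselization (X.presheaf.stalk y) R
  haveI := hl.faithfullyFlat
  have hIle : I ≤ IsLocalRing.maximalIdeal R :=
    (Ideal.map_mono (IsLocalRing.le_maximalIdeal ‹p.IsPrime›.ne_top)).trans
      (Ideal.map_le_iff_le_comap.2 (IsLocalRing.maximalIdeal_comap _).ge)
  haveI : Nontrivial (R ⧸ I) :=
    Ideal.Quotient.nontrivial_iff.2 (ne_top_of_le_ne_top (IsLocalRing.maximalIdeal.isMaximal R).ne_top hIle)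
  obtain ⟨e, he⟩ : ∃ e : ℕ, ringKrullDim (R ⧸ I) = e := by
    have h1 := ringKrullDim_nonneg_of_nontrivial (R := R ⧸ I)
    have h2 : ringKrullDim (R ⧸ I) < ⊤ :=
      (ringKrullDim_quotient_le I).trans_lt ((ringKrullDim_lt_top (R := R)))
    cases hd : ringKrullDim (R ⧸ I) with
    | bot => rw [hd] at h1; simp at h1
    | coe v =>
      rw [hd] at h2
      exact ⟨v.toNat, by rw [← WithBot.coe_natCast, ENat.natCast_toNat (WithBot.coe_lt_coe.1 h2).ne]⟩
  let q : PrimeSpectrum (R ⧸ I) → PrimeSpectrum R := PrimeSpectrum.comap (Ideal.Quotient.mk I)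
  let g : PrimeSpectrum (R ⧸ I) → X := fun P => (Hens2.specOf X y R).base (q P)
  have hgapp : ∀ P, g P = (X.fromSpecStalk y).base (PrimeSpectrum.comap (algebraMap (X.presheaf.stalk y) R) (q P)) :=
    fun P => Scheme.Hom.comp_apply _ _ _
  have hgen : ∀ P, x ⤳ g P := fun P => by
    have hp : (⟨p, inferInstance⟩ : PrimeSpectrum (X.presheaf.stalk y)) ≤ PrimeSpectrum.comap (algebraMap (X.presheaf.stalk y) R) (q P) :=
      Ideal.map_le_iff_le_comap.1 ((Ideal.mk_ker.ge).trans (Ideal.comap_mono bot_le))
    have h := ((PrimeSpectrum.le_iff_specializes _ _).1 hp).map (X.fromSpecStalk y).continuous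
    rw [fromSpecStalk_ker_specMap x y hxy] at h
    exact h.trans (specializes_of_eq (hgapp P).symm)
  have hg : ∀ P Q, P < Q → g Q < g P := fun P Q hPQ => by
    have hlt : q P < q Q := lt_of_le_of_ne (Ideal.comap_mono hPQ.le) fun h =>
      hPQ.ne (PrimeSpectrum.comap_injective_of_surjective _ Ideal.Quotient.mk_surjective h)
    have hc : PrimeSpectrum.comap (algebraMap (X.presheaf.stalk y) R) (q P) < PrimeSpectrum.comap (algebraMap (X.presheaf.stalk y) R) (q Q) :=
      lt_of_le_of_ne (Ideal.comap_mono hlt.le) fun h => hlt.ne (PrimeSpectrum.ext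
        (haveI := (q P).isPrime; haveI := (q Q).isPrime
         hl.eq_of_le_of_comap_eq hlt.le (congrArg PrimeSpectrum.asIdeal h)))
    have hs := ((PrimeSpectrum.le_iff_specializes _ _).1 hc.le).map (X.fromSpecStalk y).continuous
    have hs' : g P ⤳ g Q := (specializes_of_eq (hgapp P)).trans (hs.trans (specializes_of_eq (hgapp Q).symm))
    refine lt_of_le_not_ge (show g Q ≤ g P from hs') fun h' => hc.ne ?_
    have h : g Q = g P := ((show g Q ⤳ g P from h').antisymm hs').eq
    exact (X.fromSpecStalk y).isEmbedding.injective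
      ((hgapp P).symm.trans (h.symm.trans (hgapp Q)))
  have hy : ∀ P, g P ⤳ y := fun P => by
    have h := (Scheme.range_fromSpecStalk (X := X) (x := y)).le ⟨_, (hgapp P).symm⟩
    exact h
  obtain ⟨s, hs⟩ := (Order.le_krullDim_iff (α := PrimeSpectrum (R ⧸ I)) (n := e)).1
    (he.ge : (e : WithBot ℕ∞) ≤ Order.krullDim (PrimeSpectrum (R ⧸ I)))
  refine ⟨e, he, ?_, ?_⟩
  · by_contra h0
    obtain rfl : e = 0 := by omega
    refine hne ?_
    -- every prime of `R ⧸ I` is maximal, so `m` is the radical of `I`
    haveI : Ring.KrullDimLE 0 (R ⧸ I) := Ring.krullDimLE_iff.2 he.le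
    have hr : IsLocalRing.maximalIdeal R ≤ I.radical := by
      rw [Ideal.radical_eq_sInf]
      refine le_sInf fun P hP => ?_
      haveI := hP.2
      haveI : (P.map (Ideal.Quotient.mk I)).IsPrime :=
        Ideal.map_isPrime_of_surjective Ideal.Quotient.mk_surjective (Ideal.mk_ker.le.trans hP.1)
      have hmax : (P.map (Ideal.Quotient.mk I)).IsMaximal := Ideal.IsPrime.isMaximal' inferInstance
      haveI := Ideal.comap_isMaximal_of_surjective _ Ideal.Quotient.mk_surjective (K := P.map (Ideal.Quotient.mk I))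
      rw [Ideal.comap_map_of_surjective _ Ideal.Quotient.mk_surjective, ← RingHom.ker_eq_comap_bot,
        Ideal.mk_ker, sup_eq_left.2 hP.1] at *
      exact (IsLocalRing.eq_maximalIdeal ‹P.IsMaximal›).ge
    have hp : IsLocalRing.maximalIdeal (X.presheaf.stalk y) ≤ p := by
      have h1 := Ideal.comap_mono (f := algebraMap (X.presheaf.stalk y) R) hr
      rw [IsLocalRing.maximalIdeal_comap, Ideal.comap_radical,
        Ideal.comap_map_eq_self_of_faithfullyFlat] at h1
      exact h1.trans_eq ‹p.IsPrime›.radical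
    have heq : (⟨p, inferInstance⟩ : PrimeSpectrum (X.presheaf.stalk y)) = IsLocalRing.closedPoint (X.presheaf.stalk y) :=
      PrimeSpectrum.ext (le_antisymm (IsLocalRing.le_maximalIdeal ‹p.IsPrime›.ne_top) hp)
    rw [← fromSpecStalk_ker_specMap x y hxy, heq, Scheme.fromSpecStalk_closedPoint]
  · have h := coheight_add_le_of_strictMono g hg s (Fin.last _)
    rw [Fin.val_last] at h
    rw [← hs]
    refine le_trans (add_le_add_left (Order.coheight_anti (show g (s 0) ≤ x from hgen (s 0))) _) ?_
    exact h.trans (Order.coheight_anti (show y ≤ g (s (Fin.last _)) from hy _))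

end Groth.Agent.EtSupp70
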