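import Groth.Agent.EtSupp70.DimFunction
import Groth.Agent.EtSupp70.Codim

/-!
# Cohomological dimension from bounds in terms of the codimension
-/

universe u

open CategoryTheory CategoryTheory.Limits AlgebraicGeometry Opposite

namespace Groth.Agent.EtSupp70

set_option backward.isDefEq.respectTransparency.types false

variable {X : Scheme.{u}} [IsNoetherian X]

/-- codimensions are finite -/
theorem coheight_lt_top (x : X) : Order.coheight x < ⊤ := by
  have h : ringKrullDim (X.presheaf.stalk x) < ⊤ := ringKrullDim_lt_top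
  rw [ringKrullDim_stalk_eq_coheight] at h
  exact WithBot.coe_lt_coe.1 h

theorem ringKrullDim_stalk_eq (x : X) :
    ringKrullDim (X.presheaf.stalk x) = ((Order.coheight x).toNat : ℕ) := by
  rw [ringKrullDim_stalk_eq_coheight, ← WithBot.coe_natCast, ENat.natCast_toNat (coheight_lt_top x).ne]

/-- vanishing from bounds by the codimension -/
theorem subsingleton_H_of_codim_bounds (hst : StalkFormula X) {ℓ : ℕ} (hℓ : ℓ.Prime) (n : ℕ)
    (h1 : ∀ (y : X) (c : ℕ), ringKrullDim (X.presheaf.stalk y) = c →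
      2 * c ≤ n ∧ Dix.CohDimLEAt (Spec (X.residueField y)) ℓ (n - 2 * c))
    (h2 : ∀ (x y : X) (hxy : x ⤳ y), ∀ (R : Type u) [CommRing R] [IsLocalRing R] [Algebra (X.presheaf.stalk y) R]
      [IsLocalHom (algebraMap (X.presheaf.stalk y) R)] [Hensel.IsStrictHenselization (X.presheaf.stalk y) R],
      ∀ P ∈ ((RingHom.ker (Cyc.specMap y x hxy)).map (algebraMap (X.presheaf.stalk y) R)).minimalPrimes,
        ∀ e : ℕ, ringKrullDim (R ⧸ (RingHom.ker (Cyc.specMap y x hxy)).map (algebraMap (X.presheaf.stalk y) R)) = e →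
          Dix.CohDimLEAt (Spec (CommRingCat.of (FractionRing (R ⧸ P)))) ℓ e)
    (s : ℕ) (F : EtCoh.Ab X) (hF : Dix.IsPrimaryTorsion ℓ F)
    (hs : ∀ y ∈ EtPBC.supp F, (s : WithBot ℕ∞) ≤ ringKrullDim (X.presheaf.stalk y))
    (q : ℕ) (hq : n < q + 2 * s) : Subsingleton (EtCoh.H X F q) := by
  let c : X → ℕ := fun x => (Order.coheight x).toNat
  refine subsingleton_H_of_cd_dimFunction hℓ (fun x => n - 2 * c x)
    (fun x => (h1 x (c x) (ringKrullDim_stalk_eq x)).2) (fun x y hxy hne R _ _ _ _ _ P hP => ?_) hst F hF q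
    (fun x hx => ?_)
  · obtain ⟨e, he, h1e, hle⟩ := exists_dim_closure_strictLocalization hxy R hne
    have hc : c x + e ≤ c y := by
      rw [← ENat.natCast_toNat (coheight_lt_top x).ne, ← ENat.natCast_toNat (coheight_lt_top y).ne] at hle
      exact_mod_cast hle
    have hy2 := (h1 y (c y) (ringKrullDim_stalk_eq y)).1
    exact ⟨e, show e + 1 + (n - 2 * c y) ≤ n - 2 * c x by omega, h2 x y hxy R P hP e he⟩
  · have h := hs x hx
    rw [ringKrullDim_stalk_eq x] at h
    have h' : s ≤ c x := by exact_mod_cast h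
    have hx2 := (h1 x (c x) (ringKrullDim_stalk_eq x)).1
    show n - 2 * c x < q
    omega

end Groth.Agent.EtSupp70
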