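import Groth.Agent.GalEt.Devissage

/-!
# Dévissage of finite sheaves killed by `p` over a field to constant sheaves on finite extensions

Any property stable under extensions and retracts which holds for `ν_* (ℤ/p)`, `ν` running over the finite
separable extensions, holds for all finite sheaves killed by `p`.
-/

universe u

open CategoryTheory CategoryTheory.Limits AlgebraicGeometry Opposite

namespace Groth.Agent.EtSupp70

open Groth.Agent.GalEt

set_option backward.isDefEq.respectTransparency.types false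

/-- direct images along finite separable extensions compose -/
noncomputable def pushSpecOverComp (κ k L : Type u) [Field κ] [Field k] [Field L] [Algebra κ k] [Algebra k L]
    [Algebra κ L] [IsScalarTower κ k L] :
    EtCoh.push (specOver k L) ⋙ EtCoh.push (specOver κ k) ≅ EtCoh.push (specOver κ L) :=
  EtCoh.pushComp (specOver κ k) (specOver k L) ≪≫ EtCoh.pushCongr (by
    rw [← Spec.map_comp, ← CommRingCat.ofHom_comp, ← IsScalarTower.algebraMap_eq])

/-- multiplication by a number prime to `p` is invertible on a sheaf killed by `p` -/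
theorem exists_retraction {X : Scheme.{u}} {p d : ℕ} [Fact p.Prime] {F G : EtCoh.Ab X} (hF : IsKilled p F)
    (hd : ¬ p ∣ d) (s : F ⟶ G) (r : G ⟶ F) (h : s ≫ r = d • 𝟙 F) : ∃ r' : G ⟶ F, s ≫ r' = 𝟙 F := by
  obtain ⟨e, -, he⟩ := Nat.exists_mul_mod_eq_one_of_coprime
    ((Fact.out : p.Prime).coprime_iff_not_dvd.2 hd).symm (Fact.out : p.Prime).one_lt
  refine ⟨e • r, ?_⟩
  rw [Preadditive.comp_nsmul, h, ← mul_nsmul, ← Nat.mod_add_div (d * e) p, he, add_nsmul, one_nsmul,
    mul_nsmul, show p • 𝟙 F = 0 from hF, smul_zero, add_zero]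

set_option maxHeartbeats 1000000 in
/-- dévissage to direct images of `ℤ/p` -/
theorem push_devissage (κ : Type u) [Field κ] (p : ℕ) [Fact p.Prime]
    (T : EtCoh.Ab (Spec (CommRingCat.of κ)) → Prop)
    (hzero : ∀ A, IsZero A → T A)
    (hext : ∀ S : ShortComplex (EtCoh.Ab (Spec (CommRingCat.of κ))), S.ShortExact → IsKilled p S.X₂ →
      T S.X₁ → T S.X₃ → T S.X₂)
    (hret : ∀ (A B : EtCoh.Ab (Spec (CommRingCat.of κ))) (s : A ⟶ B) (r : B ⟶ A), s ≫ r = 𝟙 A → T B → T A)
    (hconst : ∀ (L : Type u) [Field L] [Algebra κ L] [FiniteDimensional κ L] [Algebra.IsSeparable κ L],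
      T ((EtCoh.push (specOver κ L)).obj (EtCoh.const (Spec (CommRingCat.of L)) (ZMod p)))) :
    ∀ (N : ℕ) (k : Type u) [Field k] [Algebra κ k] [FiniteDimensional κ k] [Algebra.IsSeparable κ k]
      (F : EtCoh.Ab (Spec (CommRingCat.of k))), IsKilled p F →
      (∀ (Ω : Type u) [Field Ω] [IsSepClosed Ω] (ξ : Spec (CommRingCat.of Ω) ⟶ Spec (CommRingCat.of k)),
        Finite ((EtCoh.stalk ξ).obj F) ∧ Nat.card ((EtCoh.stalk ξ).obj F) ≤ N) →
      T ((EtCoh.push (specOver κ k)).obj F) := by
  intro N
  induction N with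
  | zero =>
    intro k _ _ _ _ F hF hfin
    obtain ⟨h1, h2⟩ := hfin (SeparableClosure k) (specOver k (SeparableClosure k))
    exact absurd (Nat.le_zero.1 h2) Nat.card_pos.ne'
  | succ N ih =>
    intro k _ _ _ _ F hF hfin
    haveI : (EtCoh.push (specOver κ k)).IsRightAdjoint := (EtCoh.pullPushAdj _).isRightAdjoint
    by_cases hz : IsZero F
    · exact hzero _ ((EtCoh.push (specOver κ k)).map_isZero hz)
    obtain ⟨M, _, _, _, _, s, hs⟩ := exists_galois_section F hz
    obtain ⟨L, _, _, _, _, _, _, _, _, hL, hPG⟩ := exists_sylow_field k p M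
    let F' := (EtCoh.pull (specOver k L)).obj F
    have hF' : IsKilled p F' := hF.map _
    let c : (EtShriek.compEtale (π (extObj k L))).obj (extObj L M) ≅ extObj k M :=
      MorphismProperty.Over.isoMk (Iso.refl _) (by
        show 𝟙 _ ≫ Spec.map (CommRingCat.ofHom (algebraMap k M)) =
          Spec.map (CommRingCat.ofHom (algebraMap L M)) ≫ Spec.map (CommRingCat.ofHom (algebraMap k L))
        rw [Category.id_comp, ← Spec.map_comp, ← CommRingCat.ofHom_comp, ← IsScalarTower.algebraMap_eq])
    let s₁ : EtCoh.sect ((EtShriek.restrAlong (π (extObj k L))).obj F) (extObj L M) := F.obj.map c.hom.op s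
    let s' : EtCoh.sect F' (extObj L M) := ((restrIso (extObj k L)).hom.app F).hom.app (op (extObj L M)) s₁
    have hs' : s' ≠ 0 := fun h => hs (by
      have h' := congrArg (((restrIso (extObj k L)).inv.app F).hom.app (op (extObj L M))) h
      have h'' : s₁ = 0 :=
        ((congrArg (fun t : (EtShriek.restrAlong (π (extObj k L))).obj F ⟶ _ => t.hom.app (op (extObj L M)) s₁)
          ((restrIso (extObj k L)).hom_inv_id_app F)).symm.trans (h'.trans (map_zero _)))
      have h3 : F.obj.map c.inv.op (F.obj.map c.hom.op s) = 0 :=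
        (congrArg (F.obj.map c.inv.op) h'').trans (map_zero _)
      rw [hom_comp_map F, c.inv_hom_id, id_map] at h3
      exact h3)
    obtain ⟨w, hw⟩ := exists_global_section p F' (sect_nsmul_eq_zero hF') M hPG s' hs'
    let φ := fromConst p F' w (sect_nsmul_eq_zero hF' _ w)
    haveI : Mono φ := mono_fromConst p F' w _ hw
    let S := ShortComplex.mk φ (cokernel.π φ) (cokernel.condition _)
    have hS : S.ShortExact := { exact := ShortComplex.exact_of_g_is_cokernel _ (cokernelIsCokernel φ) }
    have hfin' : ∀ (Ω : Type u) [Field Ω] [IsSepClosed Ω] (ξ : Spec (CommRingCat.of Ω) ⟶ Spec (CommRingCat.of L)),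
        Finite ((EtCoh.stalk ξ).obj (cokernel φ)) ∧ Nat.card ((EtCoh.stalk ξ).obj (cokernel φ)) ≤ N := by
      intro Ω _ _ ξ
      obtain ⟨h1, h2⟩ := hfin Ω (ξ ≫ specOver k L)
      let e := ((EtFound.stalkPullIso (specOver k L) ξ).app F).addCommGroupIsoToAddEquiv
      haveI : Finite ((EtCoh.stalk ξ).obj F') := Finite.of_equiv _ e.symm.toEquiv
      obtain ⟨h3, h4⟩ := card_stalk_cokernel L p φ ξ
      refine ⟨h3, ?_⟩
      have h5 : Nat.card ((EtCoh.stalk ξ).obj F') ≤ N + 1 := (Nat.card_congr e.toEquiv).trans_le h2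
      omega
    letI : Algebra κ L := ((algebraMap k L).comp (algebraMap κ k)).toAlgebra
    haveI : IsScalarTower κ k L := IsScalarTower.of_algebraMap_eq fun _ => rfl
    haveI : FiniteDimensional κ L := FiniteDimensional.trans κ k L
    haveI : Algebra.IsSeparable κ L := Algebra.IsSeparable.trans κ k L
    haveI : IsIntegralHom (specOver κ L) := isIntegralHom_extObj (k := κ) (L := L)
    haveI := EtFound.push_preservesFiniteLimits (specOver κ L)
    haveI := EtFound.push_preservesFiniteColimits (specOver κ L)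
    have hT' : T ((EtCoh.push (specOver κ L)).obj F') :=
      hext (S.map (EtCoh.push (specOver κ L))) (hS.map_of_exact _) (hF'.map (EtCoh.push (specOver κ L))) (hconst L)
        (ih L _ (hF'.of_epi (cokernel.π φ)) hfin')
    haveI := isIntegralHom_extObj (k := k) (L := L)
    obtain ⟨r', hr'⟩ := exists_retraction hF hL _ _
      ((unit_tr (isGaloisObj_extObj (k := k) (galClosure k L)) (T := extObj k L) F).trans
        (congrArg (· • 𝟙 F) (card_extHom L (galClosure k L) (splits_of_algHom k (toGalClosure k L)))))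
    let β := (pushSpecOverComp κ k L).app F'
    refine hret _ _ ((EtCoh.push (specOver κ k)).map ((EtCoh.pullPushAdj (specOver k L)).unit.app F) ≫ β.hom)
      (β.inv ≫ (EtCoh.push (specOver κ k)).map r') ?_ hT'
    rw [Category.assoc, Iso.hom_inv_id_assoc]
    exact ((EtCoh.push (specOver κ k)).map_comp _ _).symm.trans
      ((congrArg (EtCoh.push (specOver κ k)).map hr').trans ((EtCoh.push (specOver κ k)).map_id F))

/-- a sheaf killed by `p` is a retract of the trace object of an extension of degree prime to `p` -/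
theorem exists_retract_pushPull (κ L : Type u) [Field κ] [Field L] [Algebra κ L] [FiniteDimensional κ L]
    [Algebra.IsSeparable κ L] {p : ℕ} [Fact p.Prime] (hd : ¬ p ∣ Module.finrank κ L)
    (M : EtCoh.Ab (Spec (CommRingCat.of κ))) (hM : IsKilled p M) :
    ∃ r : (EtCoh.push (specOver κ L)).obj ((EtCoh.pull (specOver κ L)).obj M) ⟶ M,
      (EtCoh.pullPushAdj (specOver κ L)).unit.app M ≫ r = 𝟙 M :=
  exists_retraction hM hd _ _
    ((unit_tr (isGaloisObj_extObj (k := κ) (galClosure κ L)) (T := extObj κ L) M).trans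
      (congrArg (· • 𝟙 M) (card_extHom L (galClosure κ L) (splits_of_algHom κ (toGalClosure κ L)))))

/-- dévissage on the field itself -/
theorem push_devissage_self (κ : Type u) [Field κ] (p : ℕ) [Fact p.Prime]
    (T : EtCoh.Ab (Spec (CommRingCat.of κ)) → Prop)
    (hzero : ∀ A, IsZero A → T A)
    (hext : ∀ S : ShortComplex (EtCoh.Ab (Spec (CommRingCat.of κ))), S.ShortExact → IsKilled p S.X₂ →
      T S.X₁ → T S.X₃ → T S.X₂)
    (hret : ∀ (A B : EtCoh.Ab (Spec (CommRingCat.of κ))) (s : A ⟶ B) (r : B ⟶ A), s ≫ r = 𝟙 A → T B → T A)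
    (hconst : ∀ (L : Type u) [Field L] [Algebra κ L] [FiniteDimensional κ L] [Algebra.IsSeparable κ L],
      T ((EtCoh.push (specOver κ L)).obj (EtCoh.const (Spec (CommRingCat.of L)) (ZMod p))))
    (M : EtCoh.Ab (Spec (CommRingCat.of κ))) (hM : IsKilled p M)
    (hfin : ∀ (Ω : Type u) [Field Ω] [IsSepClosed Ω] (ξ : Spec (CommRingCat.of Ω) ⟶ Spec (CommRingCat.of κ)),
      Finite ((EtCoh.stalk ξ).obj M)) : T M := by
  let ξ₀ := specOver κ (SeparableClosure κ)
  obtain ⟨r, hr⟩ := exists_retract_pushPull κ κ (by rw [Module.finrank_self]; exact (Fact.out : p.Prime).not_dvd_one)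
    M hM
  refine hret M _ _ r hr (push_devissage κ p T hzero hext hret hconst
    (Nat.card ((EtCoh.stalk ξ₀).obj M)) κ ((EtCoh.pull (specOver κ κ)).obj M)
    (hM.map (EtCoh.pull (specOver κ κ))) fun Ω _ _ ξ => ?_)
  let e := ((EtFound.stalkPullIso (specOver κ κ) ξ).app M).addCommGroupIsoToAddEquiv
  obtain ⟨e'⟩ := EtFound.nonempty_stalk_equiv M (ξ ≫ specOver κ κ) ξ₀
    (Subsingleton.elim (α := Spec (CommRingCat.of κ)) _ _)
  haveI : Finite ((EtCoh.stalk (ξ ≫ specOver κ κ)).obj M) := hfin Ω _
  exact ⟨Finite.of_equiv _ e.symm.toEquiv, ((Nat.card_congr e.toEquiv).trans (Nat.card_congr e')).le⟩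

end Groth.Agent.EtSupp70
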