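import Groth.Agent.EtSupp70.CdCurve
import Groth.Agent.EtSupp70.FieldDevissage

/-!
# `H²` of finite `p`-torsion sheaves on curves from `H²` of direct images of `ℤ/p` from finite extensions of
the residue fields at the generic points
-/

universe u

open CategoryTheory CategoryTheory.Limits AlgebraicGeometry Opposite TopologicalSpace CategoryTheory.Abelian

namespace Groth.Agent.EtSupp70

open Groth.Agent.GalEt Groth.Agent.EtPBC63 Groth.Agent.EtFound

set_option backward.isDefEq.respectTransparency.types false

variable {k : Type u} [Field k] [IsAlgClosed k] {X : Scheme.{u}} (f : X ⟶ Spec (CommRingCat.of k))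
  [LocallyOfFiniteType f] [QuasiCompact f] (hdim : topologicalKrullDim X ≤ 1)

include f hdim

omit hdim in
/-- sheaves supported in closed points have no higher cohomology -/
theorem subsingleton_H_of_supp_closed_points (Q : EtCoh.Ab X)
    (h : ∀ x ∈ EtPBC.supp Q, VarDim.deg f x = 0) (q : ℕ) (hq : 0 < q) : Subsingleton (EtCoh.H X Q q) := by
  haveI : IsLocallyNoetherian X := LocallyOfFiniteType.isLocallyNoetherian f
  haveI : CompactSpace X := QuasiCompact.compactSpace_of_compactSpace f
  haveI : IsNoetherian X := {}
  obtain ⟨b, rfl⟩ : ∃ b, q = b + 1 := ⟨q - 1, by omega⟩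
  exact BrauerXCurve.subsingleton_H_supp_closedPoints (fun x hx => isSepClosed_residueField_of_isClosed f x hx) Q
    (fun x hx => (VarDim.closedPoint_iff_deg_eq_zero f x).2 (h x hx)) b

set_option maxHeartbeats 1000000 in
/-- `H²(X, i_{η *} M) = 0` for finite `M` killed by `p`, from the constant case -/
theorem subsingleton_H2_push_point {p : ℕ} [Fact p.Prime] (η : X) (hη : VarDim.deg f η = 1)
    (hconst : ∀ (L : Type u) [Field L] [Algebra (X.residueField η) L] [FiniteDimensional (X.residueField η) L]
      [Algebra.IsSeparable (X.residueField η) L],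
      Subsingleton (EtCoh.H X ((EtCoh.push (X.fromSpecResidueField η)).obj
        ((EtCoh.push (specOver (X.residueField η) L)).obj (EtCoh.const (Spec (CommRingCat.of L)) (ZMod p)))) 2))
    (M : EtCoh.Ab (Spec (X.residueField η))) (hM : IsKilled p M)
    (hfin : ∀ (Ω : Type u) [Field Ω] [IsSepClosed Ω] (ξ : Spec (CommRingCat.of Ω) ⟶ Spec (X.residueField η)),
      Finite ((EtCoh.stalk ξ).obj M)) :
    Subsingleton (EtCoh.H X ((EtCoh.push (X.fromSpecResidueField η)).obj M) 2) := by
  haveI : IsLocallyNoetherian X := LocallyOfFiniteType.isLocallyNoetherian f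
  haveI : CompactSpace X := QuasiCompact.compactSpace_of_compactSpace f
  haveI : IsNoetherian X := {}
  let i := X.fromSpecResidueField η
  haveI : (EtCoh.push i).IsRightAdjoint := (EtCoh.pullPushAdj i).isRightAdjoint
  haveI : (EtCoh.pull i).IsLeftAdjoint := (EtCoh.pullPushAdj i).isLeftAdjoint
  let T : EtCoh.Ab (Spec (CommRingCat.of (X.residueField η))) → Prop := fun A =>
    Subsingleton (EtCoh.H X ((EtCoh.push i).obj A) 2)
  have hret : ∀ (A B : EtCoh.Ab (Spec (CommRingCat.of (X.residueField η)))) (s : A ⟶ B) (r : B ⟶ A),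
      s ≫ r = 𝟙 A → T B → T A := fun A B s r hsr hB =>
    ⟨fun a b => by
      have key : ∀ a : EtCoh.H X ((EtCoh.push i).obj A) 2, a = (a.comp (Ext.mk₀ ((EtCoh.push i).map s))
          (add_zero 2)).comp (Ext.mk₀ ((EtCoh.push i).map r)) (add_zero 2) := fun a => by
        rw [Ext.comp_assoc_of_second_deg_zero, Ext.mk₀_comp_mk₀, ← Functor.map_comp, hsr,
          CategoryTheory.Functor.map_id, Ext.comp_mk₀_id]
      rw [key a, key b]
      exact congrArg (fun c => Ext.comp c (Ext.mk₀ ((EtCoh.push i).map r)) (add_zero 2)) (@Subsingleton.elim _ hB _ _)⟩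
  have hext : ∀ S : ShortComplex (EtCoh.Ab (Spec (CommRingCat.of (X.residueField η)))), S.ShortExact →
      IsKilled p S.X₂ → T S.X₁ → T S.X₃ → T S.X₂ := by
    intro S hS hS2 h1 h3
    let v := (EtCoh.push i).map S.g
    haveI := hS.epi_g
    let e : (EtCoh.push i).obj S.X₁ ≅ kernel v :=
      (EtCoh.push i).mapIso ((hS.fIsKernel.conePointUniqueUpToIso (kernelIsKernel S.g))) ≪≫
        PreservesKernel.iso (EtCoh.push i) S.g
    refine subsingleton_H_of_kernel_cokernel v 1 (@subsingleton_H_of_iso X _ _ e 2 h1) ?_ h3
    refine subsingleton_H_of_supp_closed_points f (cokernel v) (fun x hx => ?_) 1 one_pos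
    have hxη : η ⤳ x := by
      have h1 := supp_push_subset i _ (supp_subset_of_epi (cokernel.π v) hx)
      rw [Scheme.range_fromSpecResidueField] at h1
      exact specializes_iff_mem_closure.2 h1
    have hne : η ≠ x := by
      rintro rfl
      haveI : IsIso ((EtCoh.pullPushAdj i).counit.app S.X₂) := counit_isIso_fromSpecResidueField X η _
      haveI : IsIso ((EtCoh.pullPushAdj i).counit.app S.X₃) := counit_isIso_fromSpecResidueField X η _
      haveI : Epi ((EtCoh.pull i).map v) := by
        have h := (EtCoh.pullPushAdj i).counit_naturality S.g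
        rw [← IsIso.eq_comp_inv] at h
        exact h ▸ inferInstance
      have hz : IsZero ((EtCoh.pull i).obj (cokernel v)) := by
        refine IsZero.of_epi_eq_zero ((EtCoh.pull i).map (cokernel.π v)) ?_
        rw [← cancel_epi ((EtCoh.pull i).map v), ← Functor.map_comp, cokernel.condition, Functor.map_zero,
          comp_zero]
      rw [isZero_pull_iff, Scheme.range_fromSpecResidueField] at hz
      exact Set.disjoint_left.1 hz rfl hx
    have := VarDim.deg_strictMono f (lt_iff_le_not_ge.2 ⟨hxη, fun h => hne (hxη.antisymm h).eq⟩)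
    omega
  exact push_devissage_self (X.residueField η) p T
    (fun A hA => subsingleton_H_of_isZero ((EtCoh.push i).map_isZero hA) 2) hext hret hconst M hM hfin

/-- finitely many points of degree one -/
theorem finite_deg_one : {x : X | VarDim.deg f x = 1}.Finite := by
  haveI : IsLocallyNoetherian X := LocallyOfFiniteType.isLocallyNoetherian f
  haveI : CompactSpace X := QuasiCompact.compactSpace_of_compactSpace f
  haveI : IsNoetherian X := {}
  refine (TopologicalSpace.NoetherianSpace.finite_irreducibleComponents.of_injOn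
    (f := fun x : X => closure {x}) (fun x hx => ?_) fun x _ y _ hxy => ?_)
  · refine ⟨isIrreducible_singleton.closure, fun C hC hle => ?_⟩
    have hC' : IsIrreducible (closure C) := hC.closure
    have hx' : hC'.genericPoint ⤳ x := by
      rw [specializes_iff_mem_closure, hC'.genericPoint_closure_eq, closure_closure]
      exact subset_closure (hle (subset_closure rfl))
    have : hC'.genericPoint = x := VarDim.eq_of_specializes_of_deg_le f hx'
      ((deg_le_one f hdim _).trans hx.ge)
    show C ⊆ closure {x}
    rw [← this, hC'.genericPoint_closure_eq, closure_closure]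
    exact subset_closure
  · exact ((specializes_iff_closure_subset.2 hxy.ge).antisymm (specializes_iff_closure_subset.2 hxy.le)).eq

variable {p : ℕ} [Fact p.Prime]

/-- `H²` of a finite sheaf killed by `p` on a curve -/
theorem subsingleton_H2_of_finite
    (hconst : ∀ η : X, VarDim.deg f η = 1 →
      ∀ (L : Type u) [Field L] [Algebra (X.residueField η) L] [FiniteDimensional (X.residueField η) L]
      [Algebra.IsSeparable (X.residueField η) L],
      Subsingleton (EtCoh.H X ((EtCoh.push (X.fromSpecResidueField η)).obj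
        ((EtCoh.push (specOver (X.residueField η) L)).obj (EtCoh.const (Spec (CommRingCat.of L)) (ZMod p)))) 2))
    (G : EtCoh.Ab X) (hG : IsKilled p G)
    (hfin : ∀ (Ω : Type u) [Field Ω] [IsSepClosed Ω] (ξ : Spec (CommRingCat.of Ω) ⟶ X),
      Finite ((EtCoh.stalk ξ).obj G)) : Subsingleton (EtCoh.H X G 2) := by
  classical
  haveI : IsLocallyNoetherian X := LocallyOfFiniteType.isLocallyNoetherian f
  haveI : CompactSpace X := QuasiCompact.compactSpace_of_compactSpace f
  haveI : IsNoetherian X := {}
  suffices ∀ (s : Finset X) (G : EtCoh.Ab X), IsKilled p G →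
      (∀ (Ω : Type u) [Field Ω] [IsSepClosed Ω] (ξ : Spec (CommRingCat.of Ω) ⟶ X),
        Finite ((EtCoh.stalk ξ).obj G)) →
      (∀ x ∈ EtPBC.supp G, VarDim.deg f x = 1 → x ∈ s) → (∀ x ∈ s, VarDim.deg f x = 1) →
      Subsingleton (EtCoh.H X G 2) by
    have hF : {x : X | VarDim.deg f x = 1}.Finite := finite_deg_one f hdim
    exact this hF.toFinset G hG hfin (fun x _ hx => hF.mem_toFinset.2 hx) fun x hx => hF.mem_toFinset.1 hx
  intro s
  induction s using Finset.induction with
  | empty =>
    intro G hG _ hs _
    refine subsingleton_H_of_supp_closed_points f G (fun x hx => ?_) 2 two_pos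
    have h1 := deg_le_one f hdim x
    by_contra h0
    exact (Finset.notMem_empty x) (hs x hx (by omega))
  | insert η s hηs ih =>
    intro G hG hfin hsupp hs
    have hη := hs η (Finset.mem_insert_self η s)
    let i := X.fromSpecResidueField η
    haveI : (EtCoh.pull i).IsLeftAdjoint := (EtCoh.pullPushAdj i).isLeftAdjoint
    haveI := EtFound.pull_preservesFiniteLimits i
    let u : G ⟶ ptPP η G := (EtCoh.pullPushAdj i).unit.app G
    haveI : IsIso ((EtCoh.pullPushAdj i).counit.app ((EtCoh.pull i).obj G)) :=
      counit_isIso_fromSpecResidueField X η _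
    haveI : IsIso ((EtCoh.pull i).map u) :=
      isIso_of_comp_hom_eq_id _ ((EtCoh.pullPushAdj i).left_triangle_components G)
    have hu : ∀ (A : EtCoh.Ab X), (IsZero ((EtCoh.pull i).obj A)) → η ∉ EtPBC.supp A := fun A hA hmem => by
      rw [isZero_pull_iff, Scheme.range_fromSpecResidueField] at hA
      exact Set.disjoint_left.1 hA rfl hmem
    have hKη : η ∉ EtPBC.supp (kernel u) := by
      refine hu _ (IsZero.of_mono_eq_zero ((EtCoh.pull i).map (kernel.ι u)) ?_)
      rw [← cancel_mono ((EtCoh.pull i).map u), ← Functor.map_comp, kernel.condition, Functor.map_zero, zero_comp]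
    have hCη : η ∉ EtPBC.supp (cokernel u) := by
      refine hu _ (IsZero.of_epi_eq_zero ((EtCoh.pull i).map (cokernel.π u)) ?_)
      rw [← cancel_epi ((EtCoh.pull i).map u), ← Functor.map_comp, cokernel.condition, Functor.map_zero, comp_zero]
    have hKp : IsKilled p (kernel u) := by
      rw [IsKilled, ← cancel_mono (kernel.ι u), zero_comp, Preadditive.nsmul_comp, Category.id_comp,
        ← Category.comp_id (kernel.ι u), ← Preadditive.comp_nsmul, show p • 𝟙 G = 0 from hG, comp_zero]
    refine subsingleton_H_of_kernel_cokernel u 1 ?_ ?_ ?_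
    · refine ih (kernel u) hKp (fun Ω _ _ ξ => ?_) (fun x hx hx1 => ?_) fun x hx => hs x (Finset.mem_insert_of_mem hx)
      · haveI := hfin Ω ξ
        exact Finite.of_injective _ ((EtFound.mono_iff_stalks (kernel.ι u)).1 inferInstance Ω ξ)
      · rcases Finset.mem_insert.1 (hsupp x (supp_subset_of_mono (kernel.ι u) hx) hx1) with rfl | h
        · exact absurd hx hKη
        · exact h
    · refine subsingleton_H_of_supp_closed_points f (cokernel u) (fun x hx => ?_) 1 one_pos
      have h1 := supp_push_subset i _ (supp_subset_of_epi (cokernel.π u) hx)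
      rw [Scheme.range_fromSpecResidueField] at h1
      have hxη : η ⤳ x := specializes_iff_mem_closure.2 h1
      have hne : η ≠ x := fun h => hCη (h ▸ hx)
      have := VarDim.deg_strictMono f (lt_iff_le_not_ge.2 ⟨hxη, fun h => hne (hxη.antisymm h).eq⟩)
      omega
    · refine subsingleton_H2_push_point f hdim η hη (hconst η hη) _ (hG.map _) fun Ω _ _ ξ => ?_
      haveI := hfin Ω (ξ ≫ i)
      exact Finite.of_equiv _ ((EtFound.stalkPullIso i ξ).app G).addCommGroupIsoToAddEquiv.symm.toEquiv

/-- `H²` of a finite sheaf killed by a power of `p` -/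
theorem subsingleton_H2_of_killed_pow
    (hconst : ∀ η : X, VarDim.deg f η = 1 →
      ∀ (L : Type u) [Field L] [Algebra (X.residueField η) L] [FiniteDimensional (X.residueField η) L]
      [Algebra.IsSeparable (X.residueField η) L],
      Subsingleton (EtCoh.H X ((EtCoh.push (X.fromSpecResidueField η)).obj
        ((EtCoh.push (specOver (X.residueField η) L)).obj (EtCoh.const (Spec (CommRingCat.of L)) (ZMod p)))) 2)) :
    ∀ (m : ℕ) (G : EtCoh.Ab X), IsKilled (p ^ m) G →
      (∀ (Ω : Type u) [Field Ω] [IsSepClosed Ω] (ξ : Spec (CommRingCat.of Ω) ⟶ X),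
        Finite ((EtCoh.stalk ξ).obj G)) → Subsingleton (EtCoh.H X G 2) := by
  intro m
  induction m with
  | zero =>
    intro G hG _
    exact subsingleton_H_of_isZero ((IsZero.iff_id_eq_zero G).2 (by simpa [IsKilled] using hG)) 2
  | succ m ih =>
    intro G hG hfin
    let v := p • 𝟙 G
    let S : ShortComplex (EtCoh.Ab X) :=
      ShortComplex.mk (kernel.ι v) (Abelian.factorThruImage v) (by
        rw [← cancel_mono (Abelian.image.ι v), Category.assoc, Abelian.image.fac, zero_comp, kernel.condition])
    have hS : S.ShortExact :=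
      { exact := ShortComplex.exact_of_f_is_kernel _ (by
          refine KernelFork.IsLimit.ofι _ _ (fun g hg => kernel.lift v g (by
            rw [← Abelian.image.fac v, reassoc_of% hg, zero_comp])) (fun g hg => kernel.lift_ι _ _ _)
            (fun g hg b hb => by
              rw [← cancel_mono (kernel.ι v)]
              exact hb.trans (kernel.lift_ι _ _ _).symm)) }
    refine subsingleton_H_middle hS 2 ?_ ?_
    · refine subsingleton_H2_of_finite f hdim hconst _ (EtPBC63.killedBy_kernel_nsmul G p) fun Ω _ _ ξ => ?_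
      haveI := hfin Ω ξ
      exact Finite.of_injective _ ((EtFound.mono_iff_stalks (kernel.ι v)).1 inferInstance Ω ξ)
    · refine ih (Abelian.image v) ?_ fun Ω _ _ ξ => ?_
      · show p ^ m • 𝟙 (Abelian.image v) = 0
        rw [← cancel_epi (Abelian.factorThruImage v), ← cancel_mono (Abelian.image.ι v), comp_zero, zero_comp,
          Preadditive.comp_nsmul, Category.comp_id, Preadditive.nsmul_comp, Abelian.image.fac]
        show p ^ m • (p • 𝟙 G) = 0
        rw [← mul_nsmul', ← pow_succ]
        exact hG
      · haveI := hfin Ω ξ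
        haveI := hS.map_of_exact (EtCoh.stalk ξ) |>.epi_g
        exact Finite.of_surjective _
          ((AddCommGrpCat.epi_iff_surjective ((EtCoh.stalk ξ).map (Abelian.factorThruImage v))).1 inferInstance)

omit [Fact p.Prime] in
/-- cohomological dimension at most one from the constant case -/
theorem cohDimLE_one_of_const
    (hconst : ∀ ℓ : ℕ, ℓ.Prime → ∀ η : X, VarDim.deg f η = 1 →
      ∀ (L : Type u) [Field L] [Algebra (X.residueField η) L] [FiniteDimensional (X.residueField η) L]
      [Algebra.IsSeparable (X.residueField η) L],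
      Subsingleton (EtCoh.H X ((EtCoh.push (X.fromSpecResidueField η)).obj
        ((EtCoh.push (specOver (X.residueField η) L)).obj (EtCoh.const (Spec (CommRingCat.of L)) (ZMod ℓ)))) 2)) :
    EtCoh.CohDimLE X 1 := by
  haveI : IsLocallyNoetherian X := LocallyOfFiniteType.isLocallyNoetherian f
  haveI : CompactSpace X := QuasiCompact.compactSpace_of_compactSpace f
  haveI : IsNoetherian X := {}
  refine cohDimLE_of_forall_cohDimLEAt fun ℓ hℓ F hF q hq => ?_
  haveI := Fact.mk hℓ
  obtain ⟨J, _, _, D, c, hc, ⟨e⟩, hD⟩ :=
    EtDerLib.exists_colimit_LTorsion {ℓ} F ((isPrimaryTorsion_iff hℓ F).1 hF)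
  haveI := subsingleton_H_of_colimit hc q fun j => by
    obtain ⟨n, hn, hjn⟩ := (hD j).2
    rw [Nat.eq_prime_pow_of_unique_prime_dvd hn.1.ne' (p := ℓ) fun {d} hd hdn => hn.2 d hd hdn] at hjn
    obtain rfl | hq2 := eq_or_lt_of_le (show 2 ≤ q from hq)
    · exact subsingleton_H2_of_killed_pow f hdim (hconst ℓ hℓ) _ (D.obj j) hjn
        fun Ω _ _ ξ => EtFound.finite_stalk_of_isConstructible (hD j).1 ξ
    · exact cohDimLE_two_of_curve f hdim (D.obj j)
        (EtPBC63.isTorsion_of_nsmul (pow_pos hℓ.pos _) hjn) q hq2
  exact subsingleton_H_of_iso e q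

end Groth.Agent.EtSupp70
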