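import Groth.Agent.EtSupp70.Torsion
import Groth.Agent.S14451
import Groth.Agent.S0071

/-!
# Finite pushforwards and zero-dimensional schemes
-/

universe u

open CategoryTheory CategoryTheory.Limits AlgebraicGeometry Opposite TopologicalSpace

namespace Groth.Agent.EtSupp70

set_option backward.isDefEq.respectTransparency.types false

variable {X Y : Scheme.{u}}

/-- cohomology of the direct image along a finite morphism -/
theorem subsingleton_H_push_finite_iff (f : X ⟶ Y) [IsFinite f] (F : EtCoh.Ab X) (q : ℕ) :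
    Subsingleton (EtCoh.H Y ((EtCoh.push f).obj F) q) ↔ Subsingleton (EtCoh.H X F q) := by
  haveI := EtFound.pull_preservesFiniteLimits f
  have h := S14451.result f F (fun i hi => S0071.result f F i hi) q
  exact ⟨fun _ => h.2.subsingleton, fun _ => h.1.subsingleton⟩

/-- cohomological dimension passes to finite schemes -/
theorem cohDimLEAt_of_isFinite (f : X ⟶ Y) [IsFinite f] {ℓ d : ℕ} (hℓ : ℓ.Prime)
    (h : Dix.CohDimLEAt Y ℓ d) : Dix.CohDimLEAt X ℓ d := fun F hF q hq =>
  (subsingleton_H_push_finite_iff f F q).1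
    (h _ ((isPrimaryTorsion_iff hℓ _).2 (EtDerLib.isLTorsion_push f ((isPrimaryTorsion_iff hℓ _).1 hF))) q hq)

/-- invariance under isomorphisms -/
theorem cohDimLEAt_of_iso (e : X ≅ Y) {ℓ d : ℕ} (hℓ : ℓ.Prime)
    (h : Dix.CohDimLEAt Y ℓ d) : Dix.CohDimLEAt X ℓ d :=
  cohDimLEAt_of_isFinite e.hom hℓ h

/-- a zero-dimensional Noetherian scheme -/
theorem cohDimLEAt_of_discrete (Z : Scheme.{u}) [IsNoetherian Z] [DiscreteTopology Z] {ℓ d : ℕ}
    (hℓ : ℓ.Prime) (h : ∀ z : Z, Dix.CohDimLEAt (Spec (Z.residueField z)) ℓ d) :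
    Dix.CohDimLEAt Z ℓ d := by
  intro F hF q hq
  refine subsingleton_H_of_dimFunction (isDevissageClass_isLTorsion {ℓ}) (fun _ => d)
    (fun {x y} hxy hne => (hne (hxy.eq)).elim) (fun G x r hG hr => ?_) d F q ((isPrimaryTorsion_iff hℓ F).1 hF)
    (fun _ _ => le_rfl) hq
  haveI : IsClosedImmersion (Z.fromSpecResidueField x) :=
    isClosed_singleton_iff_isClosedImmersion.mp (isClosed_discrete _)
  exact (subsingleton_H_push_finite_iff _ _ r).2
    (h x _ ((isPrimaryTorsion_iff hℓ _).2 (EtDerLib.isLTorsion_pull _ hG)) r hr)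

end Groth.Agent.EtSupp70
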