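import Groth.Agent.EtSupp70.CurveH2
import Groth.Agent.EtSupp70.Discrete
import Groth.Agent.GalEt.ConstPush
import Groth.Agent.SmoothVarLib.Basic
import Groth.Agent.VarDim.Basic
import Groth.Agent.S10862
import Mathlib.AlgebraicGeometry.FunctionField
import Mathlib.RingTheory.DedekindDomain.Basic
import Mathlib.RingTheory.RegularLocalRing.Defs

/-!
# Direct images of constant sheaves from finite extensions of function fields of curves, by normalisation
-/

universe u

open CategoryTheory CategoryTheory.Limits AlgebraicGeometry Opposite TopologicalSpace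

namespace Groth.Agent.EtSupp70

open Groth.Agent.GalEt Groth.Agent.EtPBC63 Groth.Agent.EtFound

set_option backward.isDefEq.respectTransparency.types false

/-- the input from the cohomology of `𝔾ₘ`, resp. Artin–Schreier theory: `H²(-, ℤ/ℓ)` vanishes on smooth affine
integral curves -/
def H2ConstVanish (k : Type u) [Field k] (ℓ : ℕ) : Prop :=
  ∀ (B : Type u) [CommRing B] [IsDomain B] [Algebra k B] [Algebra.Smooth k B], ringKrullDim B = 1 →
    Subsingleton (EtCoh.H (Spec (CommRingCat.of B)) (EtCoh.const (Spec (CommRingCat.of B)) (ZMod ℓ)) 2)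

/-- the unit is an isomorphism along an isomorphism -/
theorem isIso_unit_of_isIso {X Y : Scheme.{u}} (e : Y ⟶ X) [IsIso e] (F : EtCoh.Ab X) :
    IsIso ((EtCoh.pullPushAdj e).unit.app F) := by
  let u := (EtCoh.pullPushAdj e).unit.app F
  haveI : IsIso ((EtCoh.pullPushAdj e).counit.app ((EtCoh.pull e).obj F)) :=
    counit_isIso e (liftable_of_isClosedImmersion e) _
  haveI : IsIso ((EtCoh.pull e).map u) :=
    isIso_of_comp_hom_eq_id _ ((EtCoh.pullPushAdj e).left_triangle_components F)
  haveI : (EtCoh.pull e).IsLeftAdjoint := (EtCoh.pullPushAdj e).isLeftAdjoint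
  haveI := EtFound.pull_preservesFiniteLimits e
  have hz : ∀ A : EtCoh.Ab X, IsZero ((EtCoh.pull e).obj A) → IsZero A := fun A hA => by
    rw [isZero_pull_iff, Set.range_eq_univ.2 e.surjective, Set.univ_disjoint] at hA
    rw [isZero_iff_stalks]
    intro Ω _ _ ξ
    by_contra hne
    exact (Set.eq_empty_iff_forall_notMem.1 hA _) ((mem_supp_iff ξ).2 hne)
  haveI : Mono u := Preadditive.mono_of_kernel_zero ((hz _ (IsZero.of_mono_eq_zero ((EtCoh.pull e).map (kernel.ι u)) (by
    rw [← cancel_mono ((EtCoh.pull e).map u), ← Functor.map_comp, kernel.condition, Functor.map_zero,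
      zero_comp]))).eq_of_src _ _)
  haveI : Epi u := Preadditive.epi_of_cokernel_zero ((hz _ (IsZero.of_epi_eq_zero ((EtCoh.pull e).map (cokernel.π u)) (by
    rw [← cancel_epi ((EtCoh.pull e).map u), ← Functor.map_comp, cokernel.condition, Functor.map_zero,
      comp_zero]))).eq_of_tgt _ _)
  exact isIso_of_mono_of_epi u

set_option maxHeartbeats 1000000 in
/-- on a normal domain a constant sheaf is the direct image of the constant sheaf of the fraction field -/
theorem nonempty_iso_push_const_fractionField (B : Type u) [CommRing B] [IsDomain B] [IsIntegrallyClosed B]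
    (L : Type u) [Field L] [Algebra B L] [IsFractionRing B L] (M : Type) [AddCommGroup M] :
    Nonempty (EtCoh.const (Spec (CommRingCat.of B)) M ≅
      (EtCoh.push (Spec.map (CommRingCat.ofHom (algebraMap B L)))).obj (EtCoh.const (Spec (CommRingCat.of L)) M)) := by
  let R := CommRingCat.of B
  haveI : IsDomain R := inferInstanceAs (IsDomain B)
  let S := Spec R
  let x : S := genericPoint S
  have hx : x.asIdeal = ⊥ := congrArg PrimeSpectrum.asIdeal (genericPoint_eq_bot_of_affine R)
  haveI := x.isPrime
  let st := (Spec.structureSheaf B).presheaf.stalk x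
  haveI : IsLocalization x.asIdeal.primeCompl L := by
    have h : x.asIdeal.primeCompl = nonZeroDivisors B := by
      refine Submonoid.ext fun b => ?_
      rw [mem_nonZeroDivisors_iff_ne_zero, Ideal.mem_primeCompl_iff]
      exact not_congr ((SetLike.ext_iff.1 hx b).trans Ideal.mem_bot)
    rw [h]
    infer_instance
  let eA : st ≃ₐ[B] L := IsLocalization.algEquiv x.asIdeal.primeCompl st L
  let e : Spec (CommRingCat.of L) ⟶ Spec (S.presheaf.stalk x) := Spec.map (eA.toRingEquiv.toCommRingCatIso.hom)
  have he : e ≫ S.fromSpecStalk x = Spec.map (CommRingCat.ofHom (algebraMap B L)) := by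
    rw [Spec.fromSpecStalk_eq']
    refine (Spec.map_comp _ _).symm.trans ?_
    exact congrArg Spec.map (CommRingCat.hom_ext (RingHom.ext fun b => eA.commutes b))
  haveI : IsIso e := inferInstanceAs (IsIso (Spec.map _))
  have hN : ∀ y : S, IsIntegrallyClosed (S.presheaf.stalk y) := fun y => by
    haveI : IsIntegrallyClosed R := inferInstanceAs (IsIntegrallyClosed B)
    haveI := y.isPrime
    exact isIntegrallyClosed_of_isLocalization (R := B) (S := (Spec.structureSheaf B).presheaf.stalk y)
      y.asIdeal.primeCompl y.asIdeal.primeCompl_le_nonZeroDivisors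
  haveI := isIso_unit_const_genericPoint hN M
  haveI := isIso_unit_of_isIso e (EtCoh.const (Spec (S.presheaf.stalk x)) M)
  exact ⟨asIso ((EtCoh.pullPushAdj (S.fromSpecStalk x)).unit.app (EtCoh.const S M)) ≪≫
    (EtCoh.push (S.fromSpecStalk x)).mapIso (EtCore.pullConst (S.fromSpecStalk x) M ≪≫
      asIso ((EtCoh.pullPushAdj e).unit.app (EtCoh.const _ M)) ≪≫
      (EtCoh.push e).mapIso (EtCore.pullConst e M)) ≪≫
    (EtCoh.pushComp (S.fromSpecStalk x) e).app _ ≪≫ (EtCoh.pushCongr he).app _⟩

set_option maxHeartbeats 1000000 in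
/-- `H²` of the direct image of `ℤ/ℓ` from a finite extension of a residue field of an affine curve -/
theorem subsingleton_H2_push_const {k : Type u} [Field k] [IsAlgClosed k] {ℓ : ℕ} (hℓ : H2ConstVanish k ℓ)
    (A : Type u) [CommRing A] [Algebra k A] [Algebra.FiniteType k A] (hdim : ringKrullDim A ≤ 1)
    (η : Spec (CommRingCat.of A)) (hη : ¬ η.asIdeal.IsMaximal)
    (L : Type u) [Field L] [Algebra ((Spec (CommRingCat.of A)).residueField η) L]
    [FiniteDimensional ((Spec (CommRingCat.of A)).residueField η) L] :
    Subsingleton (EtCoh.H (Spec (CommRingCat.of A)) ((EtCoh.push ((Spec (CommRingCat.of A)).fromSpecResidueField η)).obj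
      ((EtCoh.push (specOver ((Spec (CommRingCat.of A)).residueField η) L)).obj
        (EtCoh.const (Spec (CommRingCat.of L)) (ZMod ℓ)))) 2) := by
  let X := Spec (CommRingCat.of A)
  let p : Ideal A := η.asIdeal
  haveI : p.IsPrime := η.isPrime
  let K := p.ResidueField
  let eK : X.residueField η ≅ CommRingCat.of K := Scheme.Spec.residueFieldIso (CommRingCat.of A) η
  let θ : K →+* L := (algebraMap (X.residueField η) L).comp eK.inv.hom
  letI : Algebra K L := θ.toAlgebra
  haveI : FiniteDimensional K L := by
    refine RingHom.finite_algebraMap.1 ?_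
    show θ.Finite
    exact RingHom.Finite.comp (RingHom.finite_algebraMap.2 inferInstance)
      (RingHom.Finite.of_surjective _ (ConcreteCategory.bijective_of_isIso eK.inv).2)
  let A' := A ⧸ p
  letI : Algebra A' L := ((algebraMap K L).comp (algebraMap A' K)).toAlgebra
  haveI : IsScalarTower A' K L := IsScalarTower.of_algebraMap_eq fun _ => rfl
  haveI : Module.Finite A' (integralClosure A' L) := S10862.result k A' K L
  let B := integralClosure A' L
  haveI : IsFractionRing B L := integralClosure.isFractionRing_of_finite_extension K L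
  haveI : IsIntegrallyClosed B := integralClosure.isIntegrallyClosedOfFiniteExtension K
  haveI : FaithfulSMul A' B := (faithfulSMul_iff_algebraMap_injective A' B).2 fun a b hab => by
    refine (IsFractionRing.injective A' K) ((algebraMap K L).injective ?_)
    exact congrArg (algebraMap B L) hab
  letI : Algebra k B := ((algebraMap A' B).comp (algebraMap k A')).toAlgebra
  haveI : IsScalarTower k A' B := IsScalarTower.of_algebraMap_eq fun _ => rfl
  haveI : Algebra.FiniteType k B := Algebra.FiniteType.trans (S := A') inferInstance inferInstance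
  haveI : IsNoetherianRing B := Algebra.FiniteType.isNoetherianRing k B
  haveI : IsDomain B := inferInstance
  have hle : ringKrullDim B ≤ 1 :=
    (VarDim.ringKrullDim_eq_of_isIntegral.trans_le (ringKrullDim_quotient_le p)).trans hdim
  haveI : Ring.KrullDimLE 1 B := Ring.krullDimLE_iff.2 (by exact_mod_cast hle)
  haveI : Ring.DimensionLEOne B := ⟨fun {P} hP hPp =>
    (Ring.krullDimLE_one_iff.1 inferInstance P hPp).resolve_left fun h => hP (by
      rw [IsDomain.minimalPrimes_eq_singleton_bot] at h
      exact h)⟩
  haveI : IsDedekindDomain B := {}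
  haveI : Algebra.Smooth k B := SmoothVarLib.smooth_of_regular k B
  have hB1 : ringKrullDim B = 1 := by
    refine le_antisymm hle ?_
    by_contra hlt
    have h0 : ringKrullDim B ≤ 0 := Order.le_of_lt_succ (lt_of_not_ge hlt)
    haveI : Ring.KrullDimLE 0 B := Ring.krullDimLE_iff.2 (by exact_mod_cast h0)
    have hF : IsField B := Ring.KrullDimLE.isField_of_isDomain
    exact hη (Ideal.Quotient.maximal_of_isField p
      ((Algebra.IsIntegral.isField_iff_isField (FaithfulSMul.algebraMap_injective A' B)).2 hF))
  let π : Spec (CommRingCat.of B) ⟶ X :=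
    Spec.map (CommRingCat.ofHom ((algebraMap A' B).comp (Ideal.Quotient.mk p)))
  haveI : IsFinite π := (IsFinite.SpecMap_iff _).2
    (RingHom.Finite.comp (RingHom.finite_algebraMap.2 inferInstance)
      (RingHom.Finite.of_surjective _ Ideal.Quotient.mk_surjective))
  let j : Spec (CommRingCat.of L) ⟶ Spec (CommRingCat.of B) := Spec.map (CommRingCat.ofHom (algebraMap B L))
  have hjπ : j ≫ π = specOver (X.residueField η) L ≫ X.fromSpecResidueField η := by
    rw [← Scheme.Spec.map_residueFieldIso_inv_eq_fromSpecResidueField]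
    simp only [j, π, specOver, ← Spec.map_comp]
    refine congrArg Spec.map (CommRingCat.hom_ext (RingHom.ext fun a => ?_))
    rfl
  obtain ⟨e⟩ := nonempty_iso_push_const_fractionField B L (ZMod ℓ)
  have h1 : Subsingleton (EtCoh.H (Spec (CommRingCat.of B))
      ((EtCoh.push j).obj (EtCoh.const (Spec (CommRingCat.of L)) (ZMod ℓ))) 2) :=
    @subsingleton_H_of_iso _ _ _ e 2 (hℓ B hB1)
  exact @subsingleton_H_of_iso X _ _
    ((EtCoh.pushComp π j).app _ ≪≫ (EtCoh.pushCongr hjπ).app _ ≪≫ ((EtCoh.pushComp _ _).app _).symm) 2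
    ((subsingleton_H_push_finite_iff π _ 2).2 h1)

/-- affine curves have cohomological dimension at most one -/
theorem cohDimLE_one_of_affine {k : Type u} [Field k] [IsAlgClosed k]
    (hℓ : ∀ ℓ : ℕ, ℓ.Prime → H2ConstVanish k ℓ) (A : Type u) [CommRing A] [Algebra k A] [Algebra.FiniteType k A]
    (hdim : ringKrullDim A ≤ 1) :
    EtCoh.CohDimLE (Spec (CommRingCat.of A)) 1 := by
  let f : Spec (CommRingCat.of A) ⟶ Spec (CommRingCat.of k) := Spec.map (CommRingCat.ofHom (algebraMap k A))
  haveI : LocallyOfFiniteType f := by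
    rw [HasRingHomProperty.Spec_iff (P := @LocallyOfFiniteType)]
    exact RingHom.finiteType_algebraMap.2 inferInstance
  have hdim' : topologicalKrullDim (Spec (CommRingCat.of A)) ≤ 1 :=
    (PrimeSpectrum.topologicalKrullDim_eq_ringKrullDim A).trans_le hdim
  refine cohDimLE_one_of_const f hdim' fun ℓ hl η hη L _ _ _ _ => ?_
  refine subsingleton_H2_push_const (hℓ ℓ hl) A hdim η (fun h => ?_) L
  have h0 := (VarDim.closedPoint_iff_deg_eq_zero f η).1
    ((PrimeSpectrum.isClosed_singleton_iff_isMaximal η).2 h)
  omega

end Groth.Agent.EtSupp70
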