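import Groth.Agent.EtSupp70.Supp
import Groth.Agent.EtLC12.QcqsAcyclic

/-!
# Vanishing of cohomology above a dimension function, by devissage to points
-/

universe u

open CategoryTheory CategoryTheory.Limits AlgebraicGeometry Opposite TopologicalSpace CategoryTheory.Abelian

namespace Groth.Agent.EtSupp70

open Groth.Agent.EtFound Groth.Agent.EtPBC63

set_option backward.isDefEq.respectTransparency.types false

variable {X : Scheme.{u}}

theorem subsingleton_H_of_isZero {F : EtCoh.Ab X} (h : IsZero F) (q : ℕ) : Subsingleton (EtCoh.H X F q) :=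
  subsingleton_of_forall_eq 0 fun x => by
    rw [← Ext.comp_mk₀_id x, h.eq_of_src (𝟙 F) 0, Ext.mk₀_zero, Ext.comp_zero]

theorem subsingleton_H_of_iso {F G : EtCoh.Ab X} (e : F ≅ G) (q : ℕ) [Subsingleton (EtCoh.H X F q)] :
    Subsingleton (EtCoh.H X G q) :=
  AddCommGrpCat.subsingleton_of_isZero
    ((AddCommGrpCat.isZero_iff_subsingleton.2 ‹_› : IsZero ((EtCoh.HF X q).obj F)).of_iso ((EtCoh.HF X q).mapIso e).symm)

/-- middle term of a short exact sequence -/
theorem subsingleton_H_middle {S : ShortComplex (EtCoh.Ab X)} (hS : S.ShortExact) (q : ℕ)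
    (h1 : Subsingleton (EtCoh.H X S.X₁ q)) (h3 : Subsingleton (EtCoh.H X S.X₃ q)) :
    Subsingleton (EtCoh.H X S.X₂ q) := by
  refine subsingleton_of_forall_eq 0 fun x => ?_
  obtain ⟨y, rfl⟩ := Ext.covariant_sequence_exact₂ _ hS x (@Subsingleton.elim _ h3 _ _)
  rw [@Subsingleton.elim _ h1 y 0, Ext.zero_comp]

/-- first term of a short exact sequence -/
theorem subsingleton_H_first {S : ShortComplex (EtCoh.Ab X)} (hS : S.ShortExact) (q : ℕ)
    (h3 : Subsingleton (EtCoh.H X S.X₃ q)) (h2 : Subsingleton (EtCoh.H X S.X₂ (q + 1))) :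
    Subsingleton (EtCoh.H X S.X₁ (q + 1)) := by
  refine subsingleton_of_forall_eq 0 fun x => ?_
  obtain ⟨y, rfl⟩ := Ext.covariant_sequence_exact₁ _ hS x (@Subsingleton.elim _ h2 _ _) rfl
  rw [@Subsingleton.elim _ h3 y 0, Ext.zero_comp]

/-- a filtered colimit of sheaves without cohomology has none -/
theorem subsingleton_H_of_colimit [IsNoetherian X] {J : Type (u + 1)} [SmallCategory J] [IsFiltered J]
    {D : J ⥤ EtCoh.Ab X} {c : Cocone D} (hc : IsColimit c) (q : ℕ)
    (h : ∀ j, Subsingleton (EtCoh.H X (D.obj j) q)) : Subsingleton (EtCoh.H X c.pt q) := by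
  haveI := EtLC12.QcqsAcyclic.preservesColimitsOfShape_HF X q J
  have hz : IsZero (c.pt |> (EtCoh.HF X q).obj) := (IsZero.iff_id_eq_zero _).2 <|
    (isColimitOfPreserves (EtCoh.HF X q) hc).hom_ext fun j =>
      (AddCommGrpCat.isZero_iff_subsingleton.2 (h j) : IsZero ((EtCoh.HF X q).obj (D.obj j))).eq_of_src _ _
  exact AddCommGrpCat.subsingleton_of_isZero hz

/-- a point and the direct image of the inverse image at it -/
noncomputable abbrev ptPP (x : X) (F : EtCoh.Ab X) : EtCoh.Ab X :=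
  (EtCoh.push (X.fromSpecResidueField x)).obj ((EtCoh.pull (X.fromSpecResidueField x)).obj F)

/-- a class of sheaves to which the devissage to points applies -/
structure IsDevissageClass (P : EtCoh.Ab X → Prop) : Prop where
  iso : ∀ {A B : EtCoh.Ab X}, (A ≅ B) → P A → P B
  ker : ∀ {A B : EtCoh.Ab X} (f : A ⟶ B), P A → P B → P (kernel f)
  coker : ∀ {A B : EtCoh.Ab X} (f : A ⟶ B), P A → P B → P (cokernel f)
  pp : ∀ (x : X) {A : EtCoh.Ab X}, P A → P (ptPP x A)
  sub : ∀ (W : Closeds X) {A : EtCoh.Ab X}, P A → P ((sub W).obj A)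

/-- vanishing from the kernel, the cokernel and the target -/
theorem subsingleton_H_of_kernel_cokernel {F I : EtCoh.Ab X} (u : F ⟶ I) (r : ℕ)
    (hK : Subsingleton (EtCoh.H X (kernel u) (r + 1))) (hC : Subsingleton (EtCoh.H X (cokernel u) r))
    (hI : Subsingleton (EtCoh.H X I (r + 1))) : Subsingleton (EtCoh.H X F (r + 1)) := by
  let τ : F ⟶ kernel (cokernel.π u) := Abelian.factorThruImage u
  have hτ : τ ≫ kernel.ι (cokernel.π u) = u := kernel.lift_ι _ _ _
  have hM : Subsingleton (EtCoh.H X (kernel (cokernel.π u)) (r + 1)) :=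
    subsingleton_H_first (S := ShortComplex.mk (kernel.ι (cokernel.π u)) (cokernel.π u) (kernel.condition _))
      { exact := ShortComplex.exact_of_f_is_kernel _ (kernelIsKernel _) } r hC hI
  have h0 : kernel.ι u ≫ τ = 0 := by
    rw [← cancel_mono (kernel.ι (cokernel.π u)), Category.assoc, hτ, kernel.condition, zero_comp]
  refine subsingleton_H_middle (S := ShortComplex.mk (kernel.ι u) τ h0) ?_ (r + 1) hK hM
  refine { exact := ShortComplex.exact_of_f_is_kernel _ ?_ }
  refine KernelFork.IsLimit.ofι _ _ (fun g hg => kernel.lift u g ?_)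
    (fun g hg => kernel.lift_ι _ _ _) (fun g hg m hm => ?_)
  · rw [← hτ, ← Category.assoc, hg, zero_comp]
  · rw [← cancel_mono (kernel.ι u), hm, kernel.lift_ι]

variable [IsNoetherian X] {P : EtCoh.Ab X → Prop} (hP : IsDevissageClass P) (φ : X → ℕ)
  (hφ : ∀ {x y : X}, x ⤳ y → x ≠ y → φ y < φ x)
  (hpt : ∀ (F : EtCoh.Ab X) (x : X) (q : ℕ), P F → φ x < q → Subsingleton (EtCoh.H X (ptPP x F) q))

include hP hφ hpt

theorem subsingleton_H_of_supp_closed (n : ℕ)
    (ihn : ∀ m < n, ∀ (F : EtCoh.Ab X) (q : ℕ), P F → (∀ x ∈ EtPBC.supp F, φ x ≤ m) → m < q →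
      Subsingleton (EtCoh.H X F q)) :
    ∀ (W : Closeds X), (∀ x ∈ W, φ x ≤ n) → ∀ (F : EtCoh.Ab X) (q : ℕ), P F →
      EtPBC.supp F ⊆ W → n < q → Subsingleton (EtCoh.H X F q) := by
  intro W
  induction W using WellFoundedLT.induction with
  | _ W ih =>
  intro hW F q hF hsupp hq
  classical
  rcases (W : Set X).eq_empty_or_nonempty with hWe | hWne
  · refine subsingleton_H_of_isZero ?_ q
    rw [isZero_iff_stalks]
    intro Ω _ _ ξ
    by_contra h
    exact (hWe ▸ hsupp ((mem_supp_iff ξ).2 h) : ξ.base default ∈ (∅ : Set X))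
  obtain ⟨S, hfin, hcl, hirr, hS⟩ := NoetherianSpace.exists_finite_set_isClosed_irreducible W.isClosed
  obtain ⟨w, hw⟩ := hWne
  rw [hS] at hw
  obtain ⟨Z₀, hZ₀, -⟩ := hw
  -- a point of `W` with no proper generization in `W`
  obtain ⟨η, hηW, hηmax⟩ : ∃ η ∈ W, ∀ x ∈ W, x ⤳ η → x = η := by
    obtain ⟨Z, hZ⟩ := Set.Finite.exists_maximal hfin ⟨Z₀, hZ₀⟩
    refine ⟨(hirr Z hZ.prop).genericPoint, ?_, fun x hx hxη => ?_⟩
    · change _ ∈ (W : Set X)
      rw [hS]
      exact ⟨Z, hZ.prop, ((hirr Z hZ.prop).isGenericPoint_genericPoint (hcl Z hZ.prop)).mem⟩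
    · change x ∈ (W : Set X) at hx
      rw [hS] at hx
      obtain ⟨Z', hZ', hxZ'⟩ := hx
      have hg := (hirr Z hZ.prop).isGenericPoint_genericPoint (hcl Z hZ.prop)
      have hsub : Z ⊆ Z' := by
        rw [← hg.def]
        exact closure_minimal (Set.singleton_subset_iff.2 (hxη.mem_closed (hcl Z' hZ') hxZ')) (hcl Z' hZ')
      have hxZ : x ∈ Z := hZ.2 hZ' hsub hxZ'
      exact (hxη.antisymm (hg.specializes hxZ)).eq
  let i := X.fromSpecResidueField η
  have hri : Set.range i.base = {η} := Scheme.range_fromSpecResidueField η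
  have hclη : closure (Set.range i.base) ⊆ W := by
    rw [hri]
    exact closure_minimal (Set.singleton_subset_iff.2 hηW) W.isClosed
  let u : F ⟶ ptPP η F := (EtCoh.pullPushAdj i).unit.app F
  have hu : ∀ (G : EtCoh.Ab X), (IsZero ((EtCoh.pull i).obj G)) → η ∉ EtPBC.supp G := fun G hG hmem => by
    rw [isZero_pull_iff, hri] at hG
    exact Set.disjoint_left.1 hG rfl hmem
  haveI := EtFound.pull_preservesFiniteLimits i
  haveI : IsIso ((EtCoh.pullPushAdj i).counit.app ((EtCoh.pull i).obj F)) :=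
    counit_isIso_fromSpecResidueField X η _
  haveI hiu : IsIso ((EtCoh.pull i).map u) :=
    isIso_of_comp_hom_eq_id _ ((EtCoh.pullPushAdj i).left_triangle_components F)
  haveI : (EtCoh.pull i).IsLeftAdjoint := (EtCoh.pullPushAdj i).isLeftAdjoint
  -- the kernel
  have hK : Subsingleton (EtCoh.H X (kernel u) q) := by
    have hKη : η ∉ EtPBC.supp (kernel u) := by
      refine hu _ (IsZero.of_mono_eq_zero ((EtCoh.pull i).map (kernel.ι u)) ?_)
      rw [← cancel_mono ((EtCoh.pull i).map u), ← Functor.map_comp, kernel.condition, Functor.map_zero, zero_comp]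
    have hKW : EtPBC.supp (kernel u) ⊆ W := (supp_subset_of_mono (kernel.ι u)).trans hsupp
    let Q : Closeds X → Prop := fun A => A ≤ W ∧ η ∉ A
    obtain ⟨J, _, _, D, c, hc, ⟨e⟩, hD⟩ := exists_colimit_sub (kernel u) Q
      ⟨bot_le, fun h => h⟩ (fun A B hA hB => ⟨sup_le hA.1 hB.1, fun h => h.elim hA.2 hB.2⟩)
      (fun y hy => ⟨closure_minimal (Set.singleton_subset_iff.2 (hKW hy)) W.isClosed, fun h => by
        have hyη : y ⤳ η := specializes_iff_mem_closure.2 h
        exact hKη (hηmax y (hKW hy) hyη ▸ hy)⟩)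
    haveI : Subsingleton (EtCoh.H X c.pt q) := subsingleton_H_of_colimit hc q fun j => by
      obtain ⟨A, hA, ⟨eA⟩⟩ := hD j
      haveI : Subsingleton (EtCoh.H X ((sub A).obj (kernel u)) q) :=
        ih A (lt_of_le_of_ne hA.1 fun h => hA.2 (h ▸ hηW)) (fun x hx => hW x (hA.1 hx)) _ q
          (hP.sub A (hP.ker u hF (hP.pp η hF))) (supp_sub_subset A _) hq
      exact subsingleton_H_of_iso eA.symm q
    exact subsingleton_H_of_iso e q
  -- the cokernel
  obtain ⟨r, rfl⟩ : ∃ r, q = r + 1 := ⟨q - 1, by omega⟩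
  have hC : Subsingleton (EtCoh.H X (cokernel u) r) := by
    have hCη : η ∉ EtPBC.supp (cokernel u) := by
      refine hu _ (IsZero.of_epi_eq_zero ((EtCoh.pull i).map (cokernel.π u)) ?_)
      rw [← cancel_epi ((EtCoh.pull i).map u), ← Functor.map_comp, cokernel.condition, Functor.map_zero, comp_zero]
    have hCW : ∀ x ∈ EtPBC.supp (cokernel u), φ x < φ η := fun x hx => by
      have h1 := supp_push_subset i _ (supp_subset_of_epi (cokernel.π u) hx)
      rw [hri] at h1
      exact hφ (specializes_iff_mem_closure.2 h1) fun h => hCη (h ▸ hx)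
    have hPC : P (cokernel u) := hP.coker u hF (hP.pp η hF)
    by_cases h0 : φ η = 0
    · refine subsingleton_H_of_isZero ?_ r
      rw [isZero_iff_stalks]
      intro Ω _ _ ξ
      by_contra h
      have := hCW _ ((mem_supp_iff ξ).2 h)
      omega
    · have := hW η hηW
      exact ihn (φ η - 1) (by omega) _ r hPC (fun x hx => by have := hCW x hx; omega) (by omega)
  have hI : Subsingleton (EtCoh.H X (ptPP η F) (r + 1)) :=
    hpt F η (r + 1) hF (lt_of_le_of_lt (hW η hηW) hq)
  exact subsingleton_H_of_kernel_cokernel u r hK hC hI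

/-- vanishing of cohomology above a dimension function on the support -/
theorem subsingleton_H_of_dimFunction : ∀ (n : ℕ) (F : EtCoh.Ab X) (q : ℕ), P F →
    (∀ x ∈ EtPBC.supp F, φ x ≤ n) → n < q → Subsingleton (EtCoh.H X F q) := by
  intro n
  induction n using Nat.strong_induction_on with
  | _ n ihn =>
  intro F q hF hsupp hq
  let Q : Closeds X → Prop := fun A => ∀ x ∈ A, φ x ≤ n
  obtain ⟨J, _, _, D, c, hc, ⟨e⟩, hD⟩ := exists_colimit_sub F Q
    (fun x hx => absurd hx (Set.notMem_empty x))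
    (fun A B hA hB x hx => hx.elim (hA x) (hB x))
    (fun y hy x hx => by
      rcases eq_or_ne y x with rfl | hne
      · exact hsupp _ hy
      · exact (hφ (specializes_iff_mem_closure.2 hx) hne).le.trans (hsupp _ hy))
  haveI : Subsingleton (EtCoh.H X c.pt q) := subsingleton_H_of_colimit hc q fun j => by
    obtain ⟨A, hA, ⟨eA⟩⟩ := hD j
    haveI : Subsingleton (EtCoh.H X ((sub A).obj F) q) :=
      subsingleton_H_of_supp_closed hP φ hφ hpt n ihn A hA _ q (hP.sub A hF) (supp_sub_subset A F) hq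
    exact subsingleton_H_of_iso eA.symm q
  exact subsingleton_H_of_iso e q

end Groth.Agent.EtSupp70
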