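import Groth.Agent.EtSupp70.StrictFibre
import Groth.Agent.S0537
import Groth.Agent.S0538
import Groth.Agent.S8560
import Groth.Agent.SGA4hSkyscraper.Basic

/-!
# Vanishing above a dimension function adapted to a prime
-/

universe u

open CategoryTheory CategoryTheory.Limits AlgebraicGeometry Opposite TopologicalSpace

namespace Groth.Agent.EtSupp70

open Groth.Agent.EtPBC63 Groth.Agent.EtFound

set_option backward.isDefEq.respectTransparency.types false

variable {X : Scheme.{u}}

/-- the stalks of higher direct images from a point are cohomology of the fibre -/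
def StalkFormula (X : Scheme.{u}) : Prop :=
  ∀ (η y : X) (F : EtCoh.Ab (Spec (X.residueField η))) (R : Type u) [CommRing R] [IsLocalRing R]
    [Algebra (X.presheaf.stalk y) R] [IsLocalHom (algebraMap (X.presheaf.stalk y) R)]
    [Hensel.IsStrictHenselization (X.presheaf.stalk y) R] [IsSepClosed (IsLocalRing.ResidueField R)] (n : ℕ),
    Nonempty ((EtCoh.stalk (Hens2.geomPt X y R)).obj ((EtCoh.Rpush (X.fromSpecResidueField η) n).obj F) ≅
      AddCommGrpCat.of (EtCoh.H (pullback (X.fromSpecResidueField η) (Hens2.specOf X y R))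
        ((EtCoh.pull (pullback.fst (X.fromSpecResidueField η) (Hens2.specOf X y R))).obj F) n))

theorem geomPt_apply (y : X) (R : Type u) [CommRing R] [IsLocalRing R] [Algebra (X.presheaf.stalk y) R]
    [IsLocalHom (algebraMap (X.presheaf.stalk y) R)]
    (t : Spec (CommRingCat.of (IsLocalRing.ResidueField R))) : (Hens2.geomPt X y R).base t = y := by
  refine (Scheme.Hom.comp_apply _ _ t).trans ((Scheme.Hom.comp_apply _ _ _).trans ?_)
  refine Eq.trans (congrArg _ ?_) Scheme.fromSpecStalk_closedPoint
  refine PrimeSpectrum.ext ?_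
  have ht : t.asIdeal = ⊥ := (Ideal.eq_bot_or_top _).resolve_right t.isPrime.ne_top
  change Ideal.comap (algebraMap (X.presheaf.stalk y) R) (Ideal.comap (IsLocalRing.residue R) t.asIdeal) =
    IsLocalRing.maximalIdeal _
  rw [ht, ← RingHom.ker_eq_comap_bot, IsLocalRing.ker_residue, IsLocalRing.maximalIdeal_comap]

variable [IsNoetherian X] {ℓ : ℕ} (hℓ : ℓ.Prime) (φ : X → ℕ)
  (h1 : ∀ x : X, Dix.CohDimLEAt (Spec (X.residueField x)) ℓ (φ x))
  (h2 : ∀ (x y : X) (hxy : x ⤳ y), x ≠ y →
    ∀ (R : Type u) [CommRing R] [IsLocalRing R] [Algebra (X.presheaf.stalk y) R]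
    [IsLocalHom (algebraMap (X.presheaf.stalk y) R)] [Hensel.IsStrictHenselization (X.presheaf.stalk y) R],
    ∀ P ∈ ((RingHom.ker (Cyc.specMap y x hxy)).map (algebraMap (X.presheaf.stalk y) R)).minimalPrimes,
      ∃ d : ℕ, d + 1 + φ y ≤ φ x ∧ Dix.CohDimLEAt (Spec (CommRingCat.of (FractionRing (R ⧸ P)))) ℓ d)
  (hst : StalkFormula X)

include h2

/-- a dimension function decreases along proper specialisations -/
theorem lt_of_specializes {x y : X} (hxy : x ⤳ y) (hne : x ≠ y) : φ y < φ x := by
  obtain ⟨R, _, _, _, _, _⟩ := S0537.result (X.presheaf.stalk y)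
  have hne' : ((RingHom.ker (Cyc.specMap y x hxy)).map (algebraMap (X.presheaf.stalk y) R)) ≠ ⊤ := by
    refine ne_top_of_le_ne_top (IsLocalRing.maximalIdeal.isMaximal R).ne_top ?_
    exact (Ideal.map_mono (IsLocalRing.le_maximalIdeal (RingHom.ker_isPrime _).ne_top)).trans
      (Ideal.map_le_iff_le_comap.2 (IsLocalRing.maximalIdeal_comap _).ge)
  obtain ⟨P, hP⟩ := Ideal.nonempty_minimalPrimes hne'
  obtain ⟨d, hd, -⟩ := h2 x y hxy hne R P hP
  omega

include hℓ hst

/-- where the higher direct images from a point live -/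
theorem le_of_mem_supp_Rpush (η : X) (G : EtCoh.Ab (Spec (X.residueField η)))
    (hG : EtAcyc.IsLTorsion {ℓ} G) (p : ℕ) {y : X}
    (hy : y ∈ EtPBC.supp ((EtCoh.Rpush (X.fromSpecResidueField η) (p + 1)).obj G)) :
    φ y + p + 2 ≤ φ η := by
  by_contra hlt
  obtain ⟨R, _, _, _, _, hR⟩ := S0537.result (X.presheaf.stalk y)
  haveI := hR.isSepClosure.sep_closed
  obtain ⟨e⟩ := hst η y G R (p + 1)
  refine (mem_supp_iff (Hens2.geomPt X y R)).1 (Set.mem_of_eq_of_mem (geomPt_apply y R _) hy) ?_
  refine IsZero.of_iso (AddCommGrpCat.isZero_iff_subsingleton.2 ?_) e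
  have hG' := (isPrimaryTorsion_iff hℓ _).2 (EtDerLib.isLTorsion_pull
    (pullback.fst (X.fromSpecResidueField η) (Hens2.specOf X y R)) hG)
  refine cohDimLEAt_strictFibre η y R (d := p) hℓ (fun h P hP => ?_) _ hG' (p + 1) p.lt_succ_self
  rcases eq_or_ne η y with rfl | hne
  · have hker : RingHom.ker (Cyc.specMap η η h) = IsLocalRing.maximalIdeal _ := by
      refine le_antisymm (IsLocalRing.le_maximalIdeal (RingHom.ker_isPrime _).ne_top) fun a ha => ?_
      change X.residue η (X.presheaf.stalkSpecializes h a) = 0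
      rw [TopCat.Presheaf.stalkSpecializes_refl]
      exact (IsLocalRing.residue_eq_zero_iff a).2 ha
    rw [hker, S0538.result, Ideal.minimalPrimes_eq_subsingleton_self, Set.mem_singleton_iff] at hP
    subst hP
    intro F _ q hq
    letI := Ideal.Quotient.field (IsLocalRing.maximalIdeal R)
    haveI : IsSepClosed (R ⧸ IsLocalRing.maximalIdeal R) := hR.isSepClosure.sep_closed
    haveI : IsSepClosed (FractionRing (R ⧸ IsLocalRing.maximalIdeal R)) :=
      Hensel.isSepClosed_of_ringEquiv
        (FractionRing.algEquiv (R ⧸ IsLocalRing.maximalIdeal R) (R ⧸ IsLocalRing.maximalIdeal R)).symm.toRingEquiv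
    exact SGA4hSkyscraper.subsingleton_H_field _ F q (by omega)
  · obtain ⟨d, hd, hcd⟩ := h2 η y h hne R P hP
    exact fun F hF q hq => hcd F hF q (by omega)

include h1

/-- direct images from a point have no cohomology above the dimension function -/
theorem subsingleton_H_ptPP : ∀ (n : ℕ) (x : X), φ x = n → ∀ (F : EtCoh.Ab X), EtAcyc.IsLTorsion {ℓ} F →
    ∀ q, n < q → Subsingleton (EtCoh.H X (ptPP x F) q) := by
  intro n
  induction n using Nat.strong_induction_on with
  | _ n ih =>
  intro x hx F hF q hq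
  obtain ⟨r, rfl⟩ : ∃ r, q = r + 1 := ⟨q - 1, by omega⟩
  let i := X.fromSpecResidueField x
  let G := (EtCoh.pull i).obj F
  have hG : EtAcyc.IsLTorsion {ℓ} G := EtDerLib.isLTorsion_pull i hF
  refine subsingleton_H_push_of_Rpush i r G
    (h1 x G ((isPrimaryTorsion_iff hℓ G).2 hG) _ (by omega)) fun a p hap => ?_
  let M := (EtCoh.Rpush i (p + 1)).obj G
  haveI : QuasiSeparated i := inferInstance
  have hM : EtAcyc.IsLTorsion {ℓ} M := S8560.result i {ℓ} G hG (p + 1)
  have hsupp : ∀ y ∈ EtPBC.supp M, φ y + p + 2 ≤ n := fun y hy =>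
    (le_of_mem_supp_Rpush hℓ φ h2 hst x G hG p hy).trans hx.le
  rcases lt_or_ge n (p + 2) with hn | hn
  · refine subsingleton_H_of_isZero ((isZero_iff_stalks M).2 fun Ω _ _ ξ => ?_) a
    by_contra h
    have := hsupp _ ((mem_supp_iff ξ).2 h)
    omega
  -- the class of torsion sheaves supported in `φ ≤ n - (p + 2)`
  let Q : EtCoh.Ab X → Prop := fun A => EtAcyc.IsLTorsion {ℓ} A ∧ ∀ y ∈ EtPBC.supp A, φ y ≤ n - (p + 2)
  have hT := isDevissageClass_isLTorsion (X := X) {ℓ}
  have hQ : IsDevissageClass Q :=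
    { iso := fun e h => ⟨hT.iso e h.1, fun y hy => h.2 y (supp_subset_of_mono e.inv hy)⟩
      ker := fun f hA hB => ⟨hT.ker f hA.1 hB.1, fun y hy => hA.2 y (supp_subset_of_mono (kernel.ι f) hy)⟩
      coker := fun f hA hB => ⟨hT.coker f hA.1 hB.1, fun y hy => hB.2 y (supp_subset_of_epi (cokernel.π f) hy)⟩
      sub := fun W A hA => ⟨hT.sub W hA.1, fun y hy => hA.2 y (supp_subset_of_mono (subι W A) hy)⟩
      pp := fun z A hA => ⟨hT.pp z hA.1, fun y hy => by
        by_cases hz : z ∈ EtPBC.supp A
        · have h' := supp_push_subset _ _ hy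
          rw [Scheme.range_fromSpecResidueField] at h'
          rcases eq_or_ne z y with rfl | hne
          · exact hA.2 _ hz
          · exact (lt_of_specializes φ h2 (specializes_iff_mem_closure.2 h') hne).le.trans (hA.2 z hz)
        · exfalso
          haveI : (EtCoh.push (X.fromSpecResidueField z)).IsRightAdjoint :=
            (EtCoh.pullPushAdj _).isRightAdjoint
          haveI := preservesBinaryBiproducts_of_preservesBinaryProducts (EtCoh.push (X.fromSpecResidueField z))
          haveI : (EtCoh.push (X.fromSpecResidueField z)).Additive := Functor.additive_of_preservesBinaryBiproducts _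
          have h0 : IsZero ((EtCoh.pull (X.fromSpecResidueField z)).obj A) := by
            rw [isZero_pull_iff, Scheme.range_fromSpecResidueField]
            exact Set.disjoint_singleton_left.2 hz
          exact (supp_eq_empty_of_isZero ((EtCoh.push _).map_isZero h0)).le hy⟩ }
  refine subsingleton_H_of_dimFunction hQ φ (fun {y z} => lt_of_specializes φ h2) (fun A z b hA hb => ?_)
    (n - (p + 2)) M a ⟨hM, fun y hy => by have := hsupp y hy; omega⟩
    (fun y hy => by have := hsupp y hy; omega) (by omega)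
  by_cases hz : z ∈ EtPBC.supp A
  · have := hA.2 z hz
    exact ih (φ z) (by omega) z rfl A hA.1 b hb
  · refine subsingleton_H_of_isZero ?_ b
    haveI : (EtCoh.push (X.fromSpecResidueField z)).IsRightAdjoint := (EtCoh.pullPushAdj _).isRightAdjoint
    haveI := preservesBinaryBiproducts_of_preservesBinaryProducts (EtCoh.push (X.fromSpecResidueField z))
    haveI : (EtCoh.push (X.fromSpecResidueField z)).Additive := Functor.additive_of_preservesBinaryBiproducts _
    refine (EtCoh.push _).map_isZero ?_
    rw [isZero_pull_iff, Scheme.range_fromSpecResidueField]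
    exact Set.disjoint_singleton_left.2 hz

/-- vanishing above a dimension function -/
theorem subsingleton_H_of_cd_dimFunction (F : EtCoh.Ab X) (hF : Dix.IsPrimaryTorsion ℓ F) (q : ℕ)
    (hq : ∀ x ∈ EtPBC.supp F, φ x < q) : Subsingleton (EtCoh.H X F q) := by
  rcases Nat.eq_zero_or_pos q with rfl | hq0
  · refine subsingleton_H_of_isZero ((isZero_iff_stalks F).2 fun Ω _ _ ξ => ?_) 0
    by_contra h
    have := hq _ ((mem_supp_iff ξ).2 h)
    omega
  exact subsingleton_H_of_dimFunction (isDevissageClass_isLTorsion {ℓ}) φ (fun {x y} => lt_of_specializes φ h2)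
    (fun G x r hG hr => subsingleton_H_ptPP hℓ φ h1 h2 hst (φ x) x rfl G hG r hr) (q - 1) F q
    ((isPrimaryTorsion_iff hℓ F).1 hF) (fun x hx => by have := hq x hx; omega) (by omega)

end Groth.Agent.EtSupp70
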