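import Groth.Agent.EtSupp70.CurveNormalize
import Groth.Agent.EtLC12.MuConst
import Groth.Agent.GalEt.CharP
import Groth.Agent.BrauerXKummer.Basic
import Groth.Agent.S0227

/-!
# `H²(-, ℤ/ℓ)` on smooth affine curves: Artin–Schreier and Kummer
-/

universe u

open CategoryTheory CategoryTheory.Limits AlgebraicGeometry Opposite CategoryTheory.Abelian

namespace Groth.Agent.EtSupp70

set_option backward.isDefEq.respectTransparency.types false

open EtLC12 in
/-- on an affine scheme of characteristic `p` there is no cohomology of `ℤ/p` above degree one -/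
theorem subsingleton_H_zmodp_affine (X : Scheme.{u}) [IsAffine X] (p : ℕ) [Fact p.Prime]
    (h0 : (p : Γ(X, ⊤)) = 0) (q : ℕ) (hq : 2 ≤ q) :
    Subsingleton (EtCoh.H X (EtCoh.const X (ZMod p)) q) := by
  obtain ⟨n, rfl⟩ : ∃ n, q = n + 1 + 1 := ⟨q - 2, by omega⟩
  have hGa : ∀ j, Subsingleton (EtCoh.H X (EtCoh.Ga X) (j + 1)) := fun j =>
    AffineCartan.subsingleton_H_of_isAffAcyclic (X := X) j _ (GaAmitsur.isAffAcyclic_Ga X)
  haveI : Subsingleton (EtCoh.H X (kernel (ArtinSchreier.as p h0)) (n + 1 + 1)) :=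
    subsingleton_H_first (ArtinSchreier.shortExact_kernel p h0) (n + 1) (hGa n) (hGa (n + 1))
  exact subsingleton_H_of_iso (asIso (ArtinSchreier.constToKer p h0)).symm _

/-- the remaining input for `ℓ` invertible: line bundles on smooth affine curves are `ℓ`-divisible -/
def PicDivisible (k : Type u) [Field k] (ℓ : ℕ) : Prop :=
  ∀ (B : Type u) [CommRing B] [IsDomain B] [Algebra k B] [Algebra.Smooth k B], ringKrullDim B = 1 →
    ∀ x : EtCoh.H (Spec (CommRingCat.of B)) (EtCoh.Gm (Spec (CommRingCat.of B))) 1, ∃ y, ℓ • y = x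

/-- the characteristic `p` case -/
theorem h2ConstVanish_charP (k : Type u) [Field k] (p : ℕ) [Fact p.Prime] (hp : (p : k) = 0) :
    H2ConstVanish k p := by
  intro B _ _ _ _ _
  refine subsingleton_H_zmodp_affine (Spec (CommRingCat.of B)) p ?_ 2 le_rfl
  rw [← map_natCast (Scheme.ΓSpecIso (CommRingCat.of B)).inv.hom p, ← map_natCast (algebraMap k B) p, hp,
    map_zero, map_zero]

/-- the Kummer case -/
theorem h2ConstVanish_of_picDivisible (k : Type u) [Field k] [IsAlgClosed k] (ℓ : ℕ) [Fact ℓ.Prime]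
    (hℓ : (ℓ : k) ≠ 0) (hdiv : PicDivisible k ℓ) : H2ConstVanish k ℓ := by
  intro B _ _ _ _ hB
  let X := Spec (CommRingCat.of B)
  let f : X ⟶ Spec (CommRingCat.of k) := Spec.map (CommRingCat.ofHom (algebraMap k B))
  haveI : IsIntegral X := inferInstance
  haveI : Smooth f := (HasRingHomProperty.Spec_iff (P := @Smooth)).2
    (RingHom.smooth_algebraMap.2 inferInstance)
  haveI : LocallyOfFiniteType f := inferInstance
  have hdim : topologicalKrullDim X = 1 := (PrimeSpectrum.topologicalKrullDim_eq_ringKrullDim B).trans hB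
  haveI hgm := S0227.result k X f hdim 2 le_rfl
  haveI : NeZero ℓ := ⟨(Fact.out : ℓ.Prime).ne_zero⟩
  let g : k →+* Γ(X, ⊤) := (Scheme.ΓSpecIso (CommRingCat.of B)).inv.hom.comp (algebraMap k B)
  have hu : IsUnit (ℓ : Γ(X, ⊤)) := by
    rw [← map_natCast g ℓ]
    exact (IsUnit.mk0 _ hℓ).map g
  obtain ⟨ζ, hζ⟩ := IsAlgClosed.exists_root (Polynomial.cyclotomic ℓ k) (Polynomial.degree_cyclotomic_pos ℓ k (NeZero.pos ℓ)).ne'
  have hζ' : Polynomial.aeval (g ζ) (Polynomial.cyclotomic ℓ ℤ) = 0 := by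
    rw [Polynomial.aeval_def, Polynomial.eval₂_eq_eval_map, Polynomial.map_cyclotomic,
      ← Polynomial.map_cyclotomic ℓ g, Polynomial.eval_map, Polynomial.eval₂_hom, hζ, map_zero]
  obtain ⟨e⟩ := EtLC12.MuConst.nonempty_mu_iso_const hu (g ζ) hζ'
  have hS := BrauerXKummer.kummer_shortExact X ℓ hu
  haveI : Subsingleton (EtCoh.H X (EtCoh.mu X ℓ) 2) := by
    refine subsingleton_of_forall_eq 0 fun z => ?_
    obtain ⟨x, hx⟩ := Ext.covariant_sequence_exact₁ _ hS z (@Subsingleton.elim _ hgm _ _) (n₀ := 1) rfl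
    obtain ⟨y, hy⟩ := hdiv B hB x
    have hxy : x = y.comp (Ext.mk₀ (EtCoh.powMap X ℓ)) (add_zero 1) := by
      rw [← hy]
      exact (GalEt.comp_nsmul_id y ℓ).symm
    rw [← hx, hxy, Ext.comp_assoc_of_second_deg_zero]
    erw [hS.comp_extClass]
    exact Ext.comp_zero _ _ _ _ _
  exact subsingleton_H_of_iso e 2

end Groth.Agent.EtSupp70
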