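import Groth.Agent.EtFound.LiftEtale
import Groth.Agent.EtFound.LiftEtaleLoc
import Groth.Agent.EtFound.Immersion
import Mathlib.AlgebraicGeometry.ResidueField

/-!
# Etale neighbourhoods lift along localisations and inclusions of points
-/

universe u

open CategoryTheory CategoryTheory.Limits AlgebraicGeometry Opposite
open scoped TensorProduct

namespace Groth.Agent.EtSupp70

open Groth.Agent.EtFound

set_option backward.isDefEq.respectTransparency.types false

/-- etale schemes over a localisation of an affine scheme lift, Zariski locally -/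
theorem liftable_specMap_of_isLocalization {A T : Type u} [CommRing A] [CommRing T] [Algebra A T]
    (S : Submonoid A) [IsLocalization S T] :
    Liftable (Spec.map (CommRingCat.ofHom (algebraMap A T))) := by
  intro U x
  let q : Spec (CommRingCat.of T) ⟶ Spec (CommRingCat.of A) := Spec.map (CommRingCat.ofHom (algebraMap A T))
  haveI : AlgebraicGeometry.Etale U.hom := U.prop
  obtain ⟨C0, w, hw, hu0, -⟩ := Scheme.exists_affine_mem_range_and_range_subset
    (x := x) (U := (⊤ : U.left.Opens)) (by simp)
  obtain ⟨c, hc⟩ := hu0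
  obtain ⟨φ, hφ⟩ := Spec.map_surjective (w ≫ U.hom)
  algebraize [φ.hom]
  have : Algebra.Etale T C0 := by
    have h : AlgebraicGeometry.Etale (Spec.map φ) := by
      rw [hφ]; infer_instance
    exact RingHom.etale_algebraMap.1 ((HasRingHomProperty.Spec_iff (P := @AlgebraicGeometry.Etale)).mp h)
  obtain ⟨g, hgc, hC⟩ := Algebra.IsEtaleAt.exists_isStandardEtale (R := T) c.asIdeal
  obtain ⟨P, ⟨eC⟩⟩ := exists_standardEtale_lift_loc (A := A) (T := T) (C := Localization.Away g) S
  let B : CommRingCat.{u} := CommRingCat.of P.Ring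
  let b : Spec B ⟶ Spec (CommRingCat.of A) := Spec.map (CommRingCat.ofHom (algebraMap A P.Ring))
  have hb : AlgebraicGeometry.Etale b := by
    rw [HasRingHomProperty.Spec_iff (P := @AlgebraicGeometry.Etale)]
    exact RingHom.etale_algebraMap.2 inferInstance
  let V : (Spec (CommRingCat.of A)).Etale := Scheme.Etale.mk b
  let L : CommRingCat.{u} := CommRingCat.of (Localization.Away g)
  let π : Spec L ⟶ Spec (CommRingCat.of T) := Spec.map (CommRingCat.ofHom (algebraMap T (Localization.Away g)))
  let i₁ : Spec (CommRingCat.of (T ⊗[A] P.Ring)) ⟶ Spec (CommRingCat.of T) :=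
    Spec.map (CommRingCat.ofHom (algebraMap T (T ⊗[A] P.Ring)))
  let ε : Spec L ≅ Spec (CommRingCat.of (T ⊗[A] P.Ring)) :=
    Scheme.Spec.mapIso (eC.toRingEquiv.toCommRingCatIso).op
  let θ : pullback b q ≅ Spec L := pullbackSymmetry b q ≪≫ pullbackSpecIso A T P.Ring ≪≫ ε.symm
  have hθ : θ.hom ≫ π = pullback.snd b q := by
    have e1 : ε.hom ≫ i₁ = π := by
      change Spec.map _ ≫ Spec.map _ = _
      rw [← Spec.map_comp]
      refine congrArg Spec.map ?_
      ext r
      exact eC.commutes r
    rw [← e1]
    simp only [θ, Iso.trans_hom, Iso.symm_hom, Category.assoc, Iso.inv_hom_id_assoc]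
    refine (congrArg ((pullbackSymmetry b q).hom ≫ ·) (pullbackSpecIso_hom_fst' A T P.Ring)).trans ?_
    exact pullbackSymmetry_hom_comp_fst b q
  let o : Spec L ⟶ U.left := Spec.map (CommRingCat.ofHom (algebraMap C0 (Localization.Away g))) ≫ w
  have hof : o ≫ U.hom = π := by
    simp only [o, Category.assoc]
    rw [← hφ, ← Spec.map_comp]
    refine congrArg Spec.map ?_
    ext r
    exact (IsScalarTower.algebraMap_apply T C0 (Localization.Away g) r).symm
  refine ⟨V, MorphismProperty.Over.homMk (θ.hom ≫ o) ((Category.assoc _ _ _).trans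
    ((congrArg (θ.hom ≫ ·) hof).trans hθ)), ?_⟩
  obtain ⟨l, hl⟩ : c ∈ Set.range (Spec.map (CommRingCat.ofHom (algebraMap C0 (Localization.Away g)))).base :=
    (PrimeSpectrum.localization_away_comap_range (Localization.Away g) g).ge hgc
  obtain ⟨p, hp⟩ := θ.hom.surjective l
  refine ⟨p, (Scheme.Hom.comp_apply _ _ p).trans ((congrArg o.base hp).trans ?_)⟩
  rw [← hc, ← hl]
  exact Scheme.Hom.comp_apply _ _ l

/-- the spectrum of a local ring of a scheme -/
theorem liftable_fromSpecStalk (X : Scheme.{u}) (x : X) : Liftable (X.fromSpecStalk x) := by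
  obtain ⟨U, hU, hxU, -⟩ := exists_isAffineOpen_mem_and_subset (x := x) (U := (⊤ : X.Opens)) trivial
  rw [← hU.fromSpecStalk_eq_fromSpecStalk hxU, IsAffineOpen.fromSpecStalk]
  refine liftable_comp _ _ ?_ (liftable_of_isOpenImmersion _)
  let := TopCat.Presheaf.algebra_section_stalk X.presheaf (⟨x, hxU⟩ : U)
  haveI := hU.isLocalization_stalk ⟨x, hxU⟩
  exact liftable_specMap_of_isLocalization (A := Γ(X, U)) (T := X.presheaf.stalk x)
    (hU.primeIdealOf ⟨x, hxU⟩).asIdeal.primeCompl

/-- the inclusion of a point -/
theorem liftable_fromSpecResidueField (X : Scheme.{u}) (x : X) : Liftable (X.fromSpecResidueField x) := by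
  haveI : IsClosedImmersion (Spec.map (X.residue x)) :=
    IsClosedImmersion.spec_of_surjective _ (X.residue_surjective x)
  exact liftable_comp _ _ (liftable_of_isClosedImmersion _) (liftable_fromSpecStalk X x)

/-- the inverse image along a point of the direct image -/
theorem counit_isIso_fromSpecResidueField (X : Scheme.{u}) (x : X) (G : EtCoh.Ab (Spec (X.residueField x))) :
    IsIso ((EtCoh.pullPushAdj (X.fromSpecResidueField x)).counit.app G) :=
  counit_isIso _ (liftable_fromSpecResidueField X x) G

end Groth.Agent.EtSupp70
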