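import Groth.Agent.EtSupp70.Discrete
import Groth.Agent.Hensel.HenselizationDescent
import Groth.Agent.S0540
import Groth.Agent.S0754
import Groth.Agent.S7179
import Groth.Prelude.Def_Cyc
import Groth.Prelude.Def_Hens2
import Mathlib.RingTheory.LocalRing.ResidueField.Ideal

/-!
# The fibre over a point of a strict localization
-/

universe u

open CategoryTheory CategoryTheory.Limits AlgebraicGeometry Opposite TopologicalSpace

namespace Groth.Agent.EtSupp70

set_option backward.isDefEq.respectTransparency.types false

variable {X : Scheme.{u}}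

/-- the point of the local ring at `y` given by a generization -/
theorem fromSpecStalk_ker_specMap (η y : X) (h : η ⤳ y) :
    (X.fromSpecStalk y).base ⟨RingHom.ker (Cyc.specMap y η h), RingHom.ker_isPrime _⟩ = η := by
  have h1 : (Spec.map (X.presheaf.stalkSpecializes h ≫ X.residue η) ≫ X.fromSpecStalk y).base default = η := by
    rw [Spec.map_comp, Category.assoc, Scheme.SpecMap_stalkSpecializes_fromSpecStalk]
    exact Scheme.fromSpecResidueField_apply η default
  refine Eq.trans ?_ h1
  rw [Scheme.Hom.comp_apply]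
  refine congrArg (X.fromSpecStalk y).base ?_
  refine PrimeSpectrum.ext ?_
  have hd : ∀ t : PrimeSpectrum (X.residueField η), t.asIdeal = ⊥ := fun t =>
    (Ideal.eq_bot_or_top t.asIdeal).resolve_right t.isPrime.ne_top
  have e1 : ∀ t : Spec (X.residueField η), ((Spec.map (X.presheaf.stalkSpecializes h ≫ X.residue η)).base t).asIdeal =
      Ideal.comap (X.presheaf.stalkSpecializes h ≫ X.residue η).hom t.asIdeal := fun t => rfl
  rw [e1, hd]
  exact (RingHom.ker_eq_comap_bot _)

/-- reduced schemes with one point have a field as ring of functions -/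
theorem isNoetherian_of_finite_discrete (Z : Scheme.{u}) [IsReduced Z] [Finite Z] [DiscreteTopology Z] :
    IsNoetherian Z := by
  haveI : CompactSpace Z := Finite.compactSpace
  haveI : IsLocallyNoetherian Z := by
    let U : Z → Z.affineOpens := fun z =>
      ⟨⟨{z}, isOpen_discrete _⟩, by
        obtain ⟨V, hV, hzV, hVs⟩ := exists_isAffineOpen_mem_and_subset (x := z)
          (U := (⟨{z}, isOpen_discrete _⟩ : Z.Opens)) (Set.mem_singleton z)
        have hVe : V = (⟨{z}, isOpen_discrete _⟩ : Z.Opens) :=
          le_antisymm hVs fun w hw => by rw [Set.mem_singleton_iff.1 hw]; exact hzV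
        exact hVe ▸ hV⟩
    refine (isLocallyNoetherian_iff_of_iSup_eq_top (S := U) ?_).2 fun z => ?_
    · refine eq_top_iff.2 fun z _ => TopologicalSpace.Opens.mem_iSup.2 ⟨z, Set.mem_singleton z⟩
    · have hU : IsAffineOpen (U z).1 := (U z).2
      haveI : Subsingleton (PrimeSpectrum Γ(Z, (U z).1)) := ⟨fun a b => by
        refine hU.fromSpec.isOpenEmbedding.injective ?_
        have ha : hU.fromSpec.base a ∈ ((U z).1 : Set Z) := hU.range_fromSpec.le ⟨a, rfl⟩
        have hb : hU.fromSpec.base b ∈ ((U z).1 : Set Z) := hU.range_fromSpec.le ⟨b, rfl⟩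
        exact (Set.mem_singleton_iff.1 ha).trans (Set.mem_singleton_iff.1 hb).symm⟩
      have hnt : Nonempty (PrimeSpectrum Γ(Z, (U z).1)) := by
        obtain ⟨a, -⟩ : z ∈ Set.range hU.fromSpec.base := hU.range_fromSpec.ge (Set.mem_singleton z)
        exact ⟨a⟩
      obtain ⟨m⟩ := hnt
      have hm : m.asIdeal = ⊥ := by
        rw [← (nilradical_eq_zero Γ(Z, (U z).1)).trans Ideal.zero_eq_bot, nilradical_eq_sInf]
        refine le_antisymm (le_sInf fun P hP => ?_) (sInf_le m.isPrime)
        rw [congrArg PrimeSpectrum.asIdeal (Subsingleton.elim m ⟨P, hP⟩)]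
      refine isNoetherianRing_iff_ideal_fg _ |>.2 fun I => ?_
      by_cases hI : I = ⊤
      · exact hI ▸ ⟨{1}, by simp⟩
      obtain ⟨M, hM, hIM⟩ := I.exists_le_maximal hI
      have hMm : M = ⊥ := (congrArg PrimeSpectrum.asIdeal
        (Subsingleton.elim (⟨M, hM.isPrime⟩ : PrimeSpectrum _) m)).trans hm
      rw [le_bot_iff.1 (hIM.trans hMm.le)]
      exact Submodule.fg_bot
  exact {}

variable [IsNoetherian X] (η y : X) (R : Type u) [CommRing R] [IsLocalRing R] [Algebra (X.presheaf.stalk y) R]
  [IsLocalHom (algebraMap (X.presheaf.stalk y) R)] [Hensel.IsStrictHenselization (X.presheaf.stalk y) R]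

/-- the fibre of a strict localization over a point -/
noncomputable abbrev strictFibre : Scheme.{u} := pullback (X.fromSpecResidueField η) (Hens2.specOf X y R)

/-- the points of the fibre -/
theorem comap_eq_of_strictFibre (z : strictFibre η y R) :
    ∃ h : η ⤳ y, ((pullback.snd (X.fromSpecResidueField η) (Hens2.specOf X y R)).base z).asIdeal.comap
        (algebraMap (X.presheaf.stalk y) R) = RingHom.ker (Cyc.specMap y η h) := by
  let P := (pullback.snd (X.fromSpecResidueField η) (Hens2.specOf X y R)).base z
  have hP : (Hens2.specOf X y R).base P = η := by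
    refine (Scheme.Hom.comp_apply _ _ z).symm.trans ?_
    rw [← pullback.condition, Scheme.Hom.comp_apply]
    exact Scheme.fromSpecResidueField_apply η _
  rw [Scheme.Hom.comp_apply] at hP
  have h : η ⤳ y := by
    have := (Scheme.range_fromSpecStalk (X := X) (x := y)).le ⟨_, hP⟩
    exact this
  refine ⟨h, ?_⟩
  have := (X.fromSpecStalk y).isEmbedding.injective (hP.trans (fromSpecStalk_ker_specMap η y h).symm)
  exact congrArg PrimeSpectrum.asIdeal this

/-- the points of the fibre are minimal over the ideal of `η` -/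
theorem mem_minimalPrimes_of_strictFibre (z : strictFibre η y R) (h : η ⤳ y) :
    ((pullback.snd (X.fromSpecResidueField η) (Hens2.specOf X y R)).base z).asIdeal ∈
      ((RingHom.ker (Cyc.specMap y η h)).map (algebraMap (X.presheaf.stalk y) R)).minimalPrimes := by
  obtain ⟨h', hc⟩ := comap_eq_of_strictFibre η y R z
  set P := (pullback.snd (X.fromSpecResidueField η) (Hens2.specOf X y R)).base z
  haveI := P.isPrime
  have hl := Hensel.isHenzLike_of_isStrictHenselization (X.presheaf.stalk y) R
  refine ⟨⟨P.isPrime, Ideal.map_le_iff_le_comap.mpr hc.ge⟩, ?_⟩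
  rintro Q ⟨hQ, hpQ⟩ hQP
  haveI := hQ
  exact (hl.eq_of_le_of_comap_eq hQP
    (le_antisymm (Ideal.comap_mono hQP) (hc.le.trans (Ideal.map_le_iff_le_comap.mp hpQ)))).ge

theorem isReduced_strictFibre : IsReduced (strictFibre η y R) := by
  haveI := S0754.result X y R
  haveI : WeaklyEtale (pullback.fst (X.fromSpecResidueField η) (Hens2.specOf X y R)) :=
    MorphismProperty.pullback_fst (P := @WeaklyEtale) _ _ inferInstance
  exact S7179.result (pullback.fst (X.fromSpecResidueField η) (Hens2.specOf X y R))

theorem finite_discrete_strictFibre :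
    Finite (strictFibre η y R) ∧ DiscreteTopology (strictFibre η y R) := by
  have hi := (pullback.snd (X.fromSpecResidueField η) (Hens2.specOf X y R)).isEmbedding
  haveI : IsNoetherianRing (X.presheaf.stalk y) := inferInstance
  haveI : IsNoetherianRing R := (S0540.result (X.presheaf.stalk y) R).1 inferInstance
  have hfin : Finite (strictFibre η y R) := by
    by_cases h : η ⤳ y
    · haveI := (Ideal.finite_minimalPrimes_of_isNoetherianRing R
        ((RingHom.ker (Cyc.specMap y η h)).map (algebraMap (X.presheaf.stalk y) R))).to_subtype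
      exact Finite.of_injective (fun z => (⟨_, mem_minimalPrimes_of_strictFibre η y R z h⟩ :
        ((RingHom.ker (Cyc.specMap y η h)).map (algebraMap (X.presheaf.stalk y) R)).minimalPrimes))
        fun a b hab => hi.injective (PrimeSpectrum.ext (congrArg Subtype.val hab))
    · haveI : IsEmpty (strictFibre η y R) := ⟨fun z => h (comap_eq_of_strictFibre η y R z).choose⟩
      infer_instance
  haveI : T1Space (strictFibre η y R) := t1Space_iff_specializes_imp_eq.2 fun a b hab => by
    obtain ⟨h, -⟩ := comap_eq_of_strictFibre η y R a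
    refine hi.injective (PrimeSpectrum.ext ?_)
    have hle := (PrimeSpectrum.le_iff_specializes _ _).2 (hab.map hi.continuous)
    exact le_antisymm hle ((mem_minimalPrimes_of_strictFibre η y R b h).2
      (mem_minimalPrimes_of_strictFibre η y R a h).1 hle)
  exact ⟨hfin, inferInstance⟩

/-- cohomological dimension of the fibre -/
theorem cohDimLEAt_strictFibre {ℓ d : ℕ} (hℓ : ℓ.Prime)
    (hd : ∀ h : η ⤳ y, ∀ P ∈ ((RingHom.ker (Cyc.specMap y η h)).map (algebraMap (X.presheaf.stalk y) R)).minimalPrimes,
      Dix.CohDimLEAt (Spec (CommRingCat.of (FractionRing (R ⧸ P)))) ℓ d) :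
    Dix.CohDimLEAt (strictFibre η y R) ℓ d := by
  obtain ⟨_, _⟩ := finite_discrete_strictFibre η y R
  haveI := isReduced_strictFibre η y R
  haveI := isNoetherian_of_finite_discrete (strictFibre η y R)
  refine cohDimLEAt_of_discrete _ hℓ fun z => ?_
  obtain ⟨h, -⟩ := comap_eq_of_strictFibre η y R z
  let i := pullback.snd (X.fromSpecResidueField η) (Hens2.specOf X y R)
  let P := i.base z
  haveI := P.isPrime
  haveI : IsDomain (R ⧸ P.asIdeal) := inferInstance
  haveI : IsIso (i.residueFieldMap z) := by
    rw [ConcreteCategory.isIso_iff_bijective]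
    refine ⟨RingHom.injective _, fun a => ?_⟩
    obtain ⟨b, rfl⟩ := (strictFibre η y R).residue_surjective z a
    obtain ⟨c, rfl⟩ := i.stalkMap_surjective z b
    refine ⟨(Spec (CommRingCat.of R)).residue _ c, ?_⟩
    exact congrArg (fun t => t.hom c) (Scheme.residue_residueFieldMap i z)
  let e : CommRingCat.of (FractionRing (R ⧸ P.asIdeal)) ≅ (strictFibre η y R).residueField z :=
    (FractionRing.algEquiv (R ⧸ P.asIdeal) P.asIdeal.ResidueField).toRingEquiv.toCommRingCatIso ≪≫
      (Scheme.Spec.residueFieldIso (CommRingCat.of R) P).symm ≪≫ asIso (i.residueFieldMap z)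
  exact cohDimLEAt_of_iso (Scheme.Spec.mapIso e.op) hℓ
    (hd h _ (mem_minimalPrimes_of_strictFibre η y R z h))

end Groth.Agent.EtSupp70
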