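import Groth.Agent.EtSupp70.Leray
import Groth.Agent.EtDerLib.TorsionColim
import Groth.Agent.GalEt.Killed
import Groth.Prelude.Def_Dix

/-!
# The class of `L`-torsion sheaves
-/

universe u

open CategoryTheory CategoryTheory.Limits AlgebraicGeometry Opposite TopologicalSpace CategoryTheory.Abelian

namespace Groth.Agent.EtSupp70

set_option backward.isDefEq.respectTransparency.types false

variable {X Y : Scheme.{u}} {L : Set ℕ}

theorem isLTorsion_of_mono {F G : EtCoh.Ab X} (a : F ⟶ G) [Mono a] (h : EtAcyc.IsLTorsion L G) :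
    EtAcyc.IsLTorsion L F := by
  refine (S8525.result L F).2 fun Ω _ _ ξ t => ?_
  obtain ⟨m, hm, h0⟩ := (S8525.result L G).1 h Ω ξ ((EtCoh.stalk ξ).map a t)
  refine ⟨m, hm, (EtFound.mono_iff_stalks a).1 inferInstance Ω ξ ?_⟩
  rw [map_nsmul, h0, map_zero]

theorem isPrimaryTorsion_iff {ℓ : ℕ} (hℓ : ℓ.Prime) (F : EtCoh.Ab X) :
    Dix.IsPrimaryTorsion ℓ F ↔ EtAcyc.IsLTorsion {ℓ} F := by
  constructor
  · intro h U s x
    obtain ⟨V, g, hv, k, h0⟩ := h U s x
    refine ⟨V, g, ℓ ^ k, hv, ⟨pow_pos hℓ.pos k, fun p hp hd => ?_⟩, h0⟩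
    exact (Nat.prime_dvd_prime_iff_eq hp hℓ).1 (hp.dvd_of_dvd_pow hd)
  · intro h U s x
    obtain ⟨V, g, m, hv, hm, h0⟩ := h U s x
    refine ⟨V, g, hv, m.primeFactorsList.length, ?_⟩
    rw [← Nat.eq_prime_pow_of_unique_prime_dvd hm.1.ne' (p := ℓ) fun {d} hd hdm => hm.2 d hd hdm]
    exact h0

theorem quasiCompact_fromSpecResidueField [QuasiSeparatedSpace X] (x : X) :
    QuasiCompact (X.fromSpecResidueField x) :=
  inferInstance

/-- `L`-torsion sheaves form a devissage class -/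
theorem isDevissageClass_isLTorsion [IsNoetherian X] (L : Set ℕ) :
    IsDevissageClass (EtAcyc.IsLTorsion L : EtCoh.Ab X → Prop) where
  iso e h := (EtDerLib.isLTorsion_of_iso e).1 h
  ker f hA _ := isLTorsion_of_mono (kernel.ι f) hA
  coker f _ hB := EtDerLib.isLTorsion_of_epi (cokernel.π f) hB
  pp x _ hA :=
    haveI := quasiCompact_fromSpecResidueField (X := X) x
    EtDerLib.isLTorsion_push (X.fromSpecResidueField x) (EtDerLib.isLTorsion_pull _ hA)
  sub W _ hA := isLTorsion_of_mono (subι W _) hA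

end Groth.Agent.EtSupp70
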